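import Groth.Agent.PtCount44.Fix
import Mathlib.FieldTheory.Finite.Extension

/-!
Continuous cocycles of the Galois group of a finite field are determined by their value at Frobenius.
-/

set_option autoImplicit false
set_option linter.style.haveILetI false
set_option backward.isDefEq.respectTransparency false
set_option backward.isDefEq.respectTransparency.types false
universe u

open CategoryTheory CategoryTheory.Limits MonoidalCategory CartesianMonoidalCategory AlgebraicGeometry
open scoped MonObj GrpObj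

namespace Groth.Agent.PtCount44

variable {k : Type u} [Field k] [Finite k] {K : Type u} [Field K] [Algebra k K] [IsAlgClosure k K]

variable (k K) in
/-- The Frobenius. -/
noncomputable def frob : K ≃ₐ[k] K :=
  letI := Fintype.ofFinite k
  haveI := IsAlgClosure.isAlgebraic (R := k) (K := K)
  FiniteField.frobeniusAlgEquivOfAlgebraic k K

theorem frob_apply (x : K) : frob k K x = x ^ Nat.card k := by
  letI := Fintype.ofFinite k
  rw [Nat.card_eq_fintype_card]
  rfl

variable (k) in
/-- A finite normal level containing a given one, of degree divisible by a given number. -/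
theorem exists_level_dvd (L₀ : IntermediateField k K) [FiniteDimensional k L₀] (n : ℕ) [NeZero n] :
    ∃ L : IntermediateField k K, ∃ _ : FiniteDimensional k L, L₀ ≤ L ∧ n ∣ Module.finrank k L := by
  haveI : IsAlgClosed K := IsAlgClosure.isAlgClosed k
  obtain ⟨p, hp⟩ := CharP.exists k
  haveI : Fact p.Prime := ⟨CharP.char_is_prime k p⟩
  let emb : FiniteField.Extension k p n →ₐ[k] K := IsAlgClosed.lift
  haveI : FiniteDimensional k emb.fieldRange :=
    Module.Finite.equiv (AlgEquiv.ofInjectiveField emb).toLinearEquiv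
  refine ⟨L₀ ⊔ emb.fieldRange, inferInstance, le_sup_left, ?_⟩
  have h : n = Module.finrank k emb.fieldRange :=
    (FiniteField.finrank_extension k p n).symm.trans (AlgEquiv.ofInjectiveField emb).toLinearEquiv.finrank_eq
  exact (dvd_of_eq h).trans (IntermediateField.finrank_dvd_of_le_right le_sup_right)

theorem restrict_eq_frob_pow (L : IntermediateField k K) [FiniteDimensional k L] [Normal k L] (σ : K ≃ₐ[k] K) :
    ∃ i : ℕ, i < Module.finrank k L ∧
      AlgEquiv.restrictNormalHom L σ = (AlgEquiv.restrictNormalHom L (frob k K)) ^ i := by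
  letI := Fintype.ofFinite k
  haveI : Finite L := Module.finite_of_finite k
  have e : AlgEquiv.restrictNormalHom L (frob k K) = FiniteField.frobeniusAlgEquivOfAlgebraic k L := by
    ext x
    rw [AlgEquiv.restrictNormalHom_apply, frob_apply, Nat.card_eq_fintype_card]
    rfl
  obtain ⟨i, hi⟩ := (FiniteField.bijective_frobeniusAlgEquivOfAlgebraic_pow k L).2 (AlgEquiv.restrictNormalHom L σ)
  exact ⟨i, i.2, by rw [e]; exact hi.symm⟩

theorem orderOf_restrict_frob (L : IntermediateField k K) [FiniteDimensional k L] [Normal k L] :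
    orderOf (AlgEquiv.restrictNormalHom L (frob k K)) = Module.finrank k L := by
  letI := Fintype.ofFinite k
  haveI : Finite L := Module.finite_of_finite k
  have e : AlgEquiv.restrictNormalHom L (frob k K) = FiniteField.frobeniusAlgEquivOfAlgebraic k L := by
    ext x
    rw [AlgEquiv.restrictNormalHom_apply, frob_apply, Nat.card_eq_fintype_card]
    rfl
  rw [e]
  exact FiniteField.orderOf_frobeniusAlgEquivOfAlgebraic k L

variable {A : Type u} [Group A] [MulDistribMulAction (K ≃ₐ[k] K) A]

omit [Finite k] [IsAlgClosure k K] in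
/-- Powers of a cocycle value. -/
noncomputable def nPow (F : K ≃ₐ[k] K) (g : A) : ℕ → A
  | 0 => 1
  | i + 1 => g * F • nPow F g i

omit [Finite k] [IsAlgClosure k K] in
theorem nPow_add (F : K ≃ₐ[k] K) (g : A) (i j : ℕ) : nPow F g (i + j) = nPow F g i * (F ^ i) • nPow F g j := by
  induction i with
  | zero => simp [nPow]
  | succ i ih => rw [Nat.add_right_comm]; simp only [nPow, ih, smul_mul', mul_assoc, pow_succ', mul_smul]

omit [Finite k] [IsAlgClosure k K] in
theorem cocycle_frob_pow (z : GpH1.OneCocycle (K ≃ₐ[k] K) A) (F : K ≃ₐ[k] K) (i : ℕ) :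
    z (F ^ i) = nPow F (z F) i := by
  induction i with
  | zero => rw [pow_zero]; exact GalTw.oneCocycle_one z
  | succ i ih => rw [pow_succ', z.2, ih]; rfl

/-- A cocycle with locally constant values is determined by its value at Frobenius. -/
theorem cocycle_ext_frob (z z' : GpH1.OneCocycleLC (K ≃ₐ[k] K) A) (h : z.1 (frob k K) = z'.1 (frob k K))
    (σ : K ≃ₐ[k] K) : z.1 σ = z'.1 σ := by
  haveI : Normal k K := IsAlgClosure.normal k K
  obtain ⟨E, hE, -, hu⟩ := GalH1.exists_factor_of_isLocallyConstant z.1.1 z.2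
  obtain ⟨E', hE', -, hu'⟩ := GalH1.exists_factor_of_isLocallyConstant z'.1.1 z'.2
  let L := E ⊔ E'
  haveI := isGalois_level L
  obtain ⟨i, -, hi⟩ := restrict_eq_frob_pow L σ
  rw [← map_pow] at hi
  have hmem : ((frob k K) ^ i)⁻¹ * σ ∈ L.fixingSubgroup := GalH1.inv_mul_mem_fixingSubgroup L hi.symm
  have h1 : z.1 (((frob k K) ^ i)⁻¹ * σ) = 1 :=
    (hu _ (IntermediateField.fixingSubgroup_le le_sup_left hmem)).trans (GalTw.oneCocycle_one z.1)
  have h2 : z'.1 (((frob k K) ^ i)⁻¹ * σ) = 1 :=
    (hu' _ (IntermediateField.fixingSubgroup_le le_sup_right hmem)).trans (GalTw.oneCocycle_one z'.1)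
  rw [← mul_inv_cancel_left ((frob k K) ^ i) σ, z.1.2, z'.1.2, h1, h2, cocycle_frob_pow, cocycle_frob_pow, h]

variable {G : Over (Spec (CommRingCat.of k))} [GrpObj G]

/-- Every point is the value at Frobenius of a locally constant cocycle. -/
theorem exists_cocycle_frob [LocallyOfFiniteType G.hom] [QuasiCompact G.hom] (g : SGA7.Pts K G) :
    ∃ z : GpH1.OneCocycleLC (K ≃ₐ[k] K) (SGA7.Pts K G), z.1 (frob k K) = g := by
  haveI := isGalois_closure k K
  haveI : Normal k K := IsAlgClosure.normal k K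
  obtain ⟨L₀, hL₀, g₀, hg₀⟩ := exists_level g
  haveI := isGalois_level L₀
  let H : Subgroup (SGA7.Pts K G) :=
    { carrier := {x | ∃ x₀ : SGA7.pt (K := k) L₀ ⟶ G, lv L₀ ≫ x₀ = x}
      one_mem' := ⟨1, MonObj.comp_one _⟩
      mul_mem' := by rintro _ _ ⟨a, rfl⟩ ⟨b, rfl⟩; exact ⟨a * b, MonObj.comp_mul _ _ _⟩
      inv_mem' := by rintro _ ⟨a, rfl⟩; exact ⟨a⁻¹, GrpObj.comp_inv _ _⟩ }
  haveI : Finite H := by
    haveI := finite_level_points (X := G) L₀
    exact Finite.of_surjective (fun x₀ : SGA7.pt (K := k) L₀ ⟶ G => (⟨lv L₀ ≫ x₀, x₀, rfl⟩ : H))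
      fun ⟨_, x₀, h⟩ => ⟨x₀, Subtype.ext h⟩
  have hres : ∀ σ τ : K ≃ₐ[k] K, AlgEquiv.restrictNormalHom L₀ σ = AlgEquiv.restrictNormalHom L₀ τ →
      ∀ x ∈ H, σ • x = τ • x := by
    rintro σ τ h _ ⟨x₀, rfl⟩
    rw [GalTw.pts_smul_def, GalTw.pts_smul_def, ← lv_specAut_assoc, ← lv_specAut_assoc, h]
  have hstab : ∀ σ : K ≃ₐ[k] K, ∀ x ∈ H, σ • x ∈ H := by
    rintro σ _ ⟨x₀, rfl⟩
    exact ⟨SGA7.specAut (AlgEquiv.restrictNormalHom L₀ σ) ≫ x₀, lv_specAut_assoc L₀ σ x₀⟩
  let F := frob k K
  have hP : ∀ i, nPow F g i ∈ H := by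
    intro i
    induction i with
    | zero => exact one_mem H
    | succ i ih => exact mul_mem ⟨g₀, hg₀⟩ (hstab _ _ ih)
  let n := Module.finrank k L₀
  have hn : ∀ j, ∀ x ∈ H, (F ^ (n * j)) • x = x := by
    intro j x hx
    refine (hres _ 1 ?_ x hx).trans (one_smul _ x)
    rw [map_pow, map_one, ← orderOf_dvd_iff_pow_eq_one, orderOf_restrict_frob]
    exact dvd_mul_right n j
  have hNj : ∀ j, nPow F g (n * j) = nPow F g n ^ j := by
    intro j
    induction j with
    | zero => simp [nPow]
    | succ j ih =>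
      rw [pow_succ, mul_add, mul_one, nPow_add, ih, hn j _ (hP n)]
  let M := Nat.card H
  haveI : NeZero (n * M) := ⟨Nat.mul_ne_zero Module.finrank_pos.ne' Nat.card_pos.ne'⟩
  obtain ⟨L, hL, hle, hdvd⟩ := exists_level_dvd k L₀ (n * M)
  haveI := isGalois_level L
  let m := Module.finrank k L
  obtain ⟨r, hr⟩ := hdvd
  have hm : ∀ j, nPow F g (m * j) = 1 := by
    intro j
    have h1 : nPow F g n ^ M = 1 := by
      have h2 : (⟨nPow F g n, hP n⟩ : H) ^ M = 1 := pow_card_eq_one'
      simpa using congrArg Subtype.val h2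
    rw [show m * j = n * (M * (r * j)) by rw [show m = n * M * r from hr]; ring, hNj, pow_mul, h1, one_pow]
  have hper : ∀ i, nPow F g i = nPow F g (i % m) := by
    intro i
    conv_lhs => rw [← Nat.mod_add_div i m, nPow_add, hm, smul_one, mul_one]
  have hsame : ∀ i j, (AlgEquiv.restrictNormalHom L F) ^ i = (AlgEquiv.restrictNormalHom L F) ^ j →
      nPow F g i = nPow F g j := by
    intro i j h
    rw [pow_eq_pow_iff_modEq, orderOf_restrict_frob] at h
    rw [hper i, hper j, show i % m = j % m from h]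
  choose e he hee using fun σ : K ≃ₐ[k] K => restrict_eq_frob_pow L σ
  have hres' : ∀ σ : K ≃ₐ[k] K, ∀ x ∈ H, σ • x = (F ^ e σ) • x := by
    intro σ x hx
    refine hres _ _ (AlgEquiv.ext fun y => Subtype.ext ?_) x hx
    rw [AlgEquiv.restrictNormalHom_apply, AlgEquiv.restrictNormalHom_apply,
      ← AlgEquiv.restrictNormalHom_apply L σ ⟨y, hle y.2⟩, hee σ, ← map_pow, AlgEquiv.restrictNormalHom_apply]
  refine ⟨⟨⟨fun σ => nPow F g (e σ), fun σ τ => ?_⟩, ?_⟩, ?_⟩
  · rw [hres' σ _ (hP _), ← nPow_add]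
    apply hsame
    rw [pow_add, ← hee, ← hee, ← hee, map_mul]
  · have h : (fun σ => nPow F g (e σ)) = fun σ => nPow F g
        (Classical.epsilon fun i => AlgEquiv.restrictNormalHom L σ = (AlgEquiv.restrictNormalHom L F) ^ i) :=
      funext fun σ => hsame _ _ ((hee σ).symm.trans
        (Classical.epsilon_spec (p := fun i => AlgEquiv.restrictNormalHom L σ = (AlgEquiv.restrictNormalHom L F) ^ i) ⟨_, hee σ⟩))
    show IsLocallyConstant fun σ => nPow F g (e σ)
    rw [h]
    exact isLocallyConstant_of_restrict L fun s =>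
      nPow F g (Classical.epsilon fun i => s = (AlgEquiv.restrictNormalHom L F) ^ i)
  · show nPow F g (e F) = g
    rw [hsame (e F) 1 (by rw [← hee, pow_one])]
    simp [nPow]

end Groth.Agent.PtCount44
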