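import Groth.Agent.PtCount44.Frob
import Groth.Agent.StMass44.Mass
import Mathlib.AlgebraicGeometry.Morphisms.Finite
import Mathlib.RingTheory.IntegralClosure.IsIntegralClosure.Basic

/-!
The twisted classes of a finite group scheme over a finite field have total mass one.
-/

set_option autoImplicit false
set_option linter.style.haveILetI false
set_option backward.isDefEq.respectTransparency false
set_option backward.isDefEq.respectTransparency.types false
universe u

open CategoryTheory CategoryTheory.Limits MonoidalCategory CartesianMonoidalCategory AlgebraicGeometry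
open scoped MonObj GrpObj

namespace Groth.Agent.PtCount44

variable {k : Type u} [Field k] {K : Type u} [Field K] [Algebra k K]
variable {G : Over (Spec (CommRingCat.of k))}

/-- A finite scheme has finitely many points in a field. -/
theorem finite_pts_of_isFinite [IsFinite G.hom] : Finite (SGA7.Pts K G) := by
  haveI : IsAffine G.left := isAffine_of_isAffineHom G.hom
  let φ : CommRingCat.of k ⟶ Γ(G.left, ⊤) := Spec.preimage (G.left.isoSpec.inv ≫ G.hom)
  letI : Algebra k Γ(G.left, ⊤) := φ.hom.toAlgebra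
  haveI : Module.Finite k Γ(G.left, ⊤) := by
    have h : IsFinite (Spec.map φ) := by rw [Spec.map_preimage]; infer_instance
    rw [IsFinite.SpecMap_iff] at h
    exact h
  have h : ∀ x : SGA7.Pts K G, ∃ r : Γ(G.left, ⊤) →ₐ[k] K,
      Spec.map (CommRingCat.ofHom r.toRingHom) ≫ G.left.isoSpec.inv = x.left := fun x => by
    let r := Spec.preimage (x.left ≫ G.left.isoSpec.hom)
    have hr : φ ≫ r = CommRingCat.ofHom (algebraMap k K) := Spec.map_injective (by
      rw [Spec.map_comp, Spec.map_preimage, Spec.map_preimage, Category.assoc, Iso.hom_inv_id_assoc]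
      exact Over.w x)
    refine ⟨{ r.hom with commutes' := fun c => congrArg (fun t => t.hom c) hr }, ?_⟩
    show Spec.map r ≫ _ = _
    rw [Spec.map_preimage, Category.assoc, Iso.hom_inv_id, Category.comp_id]
  choose f hf using h
  haveI : Finite (Γ(G.left, ⊤) →ₐ[k] K) := Finite.algHom k Γ(G.left, ⊤) K
  exact Finite.of_injective f fun x y e => Over.OverMorphism.ext (by rw [← hf x, e, hf y])

variable [GrpObj G] [Finite k] [IsAlgClosure k K]

theorem isLocallyConstant_smul [LocallyOfFiniteType G.hom] (c : SGA7.Pts K G) :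
    IsLocallyConstant fun σ : K ≃ₐ[k] K => σ • c := by
  haveI := isGalois_closure k K
  haveI : Normal k K := IsAlgClosure.normal k K
  obtain ⟨L, hL, c', hc'⟩ := exists_level c
  haveI := isGalois_level L
  have e : ∀ σ : K ≃ₐ[k] K, σ • c = lv L ≫ SGA7.specAut (AlgEquiv.restrictNormalHom L σ) ≫ c' := fun σ => by
    rw [GalTw.pts_smul_def, lv_specAut_assoc, hc']
  rw [funext e]
  exact isLocallyConstant_of_restrict L fun s => lv L ≫ SGA7.specAut s ≫ c'

/-- The twist of a cocycle by a point. -/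
noncomputable def conjCoc [LocallyOfFiniteType G.hom] (z : GpH1.OneCocycleLC (K ≃ₐ[k] K) (SGA7.Pts K G))
    (c : SGA7.Pts K G) : GpH1.OneCocycleLC (K ≃ₐ[k] K) (SGA7.Pts K G) :=
  ⟨⟨fun σ => c⁻¹ * z.1 σ * σ • c, fun σ τ => by
    show c⁻¹ * z.1 (σ * τ) * (σ * τ) • c = c⁻¹ * z.1 σ * σ • c * σ • (c⁻¹ * z.1 τ * τ • c)
    rw [z.1.2, smul_mul', smul_mul', smul_inv', mul_smul]
    group⟩,
    ((IsLocallyConstant.const c⁻¹).mul z.2).mul (isLocallyConstant_smul c)⟩

theorem finite_H1lc_and_sum [LocallyOfFiniteType G.hom] [QuasiCompact G.hom] [Finite (SGA7.Pts K G)] :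
    Finite (GpH1.H1lc (K ≃ₐ[k] K) (SGA7.Pts K G)) ∧
      ∀ z : GpH1.H1lc (K ≃ₐ[k] K) (SGA7.Pts K G) → GpH1.OneCocycleLC (K ≃ₐ[k] K) (SGA7.Pts K G),
        (∀ c, (z c).cl = c) → ∑ᶠ c, ((Nat.card (fixGrp (z c)) : ℚ))⁻¹ = 1 := by
  let F := frob k K
  letI tw : MulAction (SGA7.Pts K G) (SGA7.Pts K G) :=
    { smul := fun c g => c * g * (F • c)⁻¹
      one_smul := fun g => show 1 * g * (F • (1 : SGA7.Pts K G))⁻¹ = g by simp
      mul_smul := fun c d g => show c * d * g * (F • (c * d))⁻¹ = c * (d * g * (F • d)⁻¹) * (F • c)⁻¹ by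
        rw [smul_mul']; group }
  letI : SMul (SGA7.Pts K G) (SGA7.Pts K G) := tw.toSMul
  have hsmul : ∀ c g : SGA7.Pts K G, c • g = c * g * (F • c)⁻¹ := fun _ _ => rfl
  choose w hw using fun g : SGA7.Pts K G => exists_cocycle_frob (G := G) g
  let f : SGA7.Pts K G → GpH1.H1lc (K ≃ₐ[k] K) (SGA7.Pts K G) := fun g => (w g).cl
  have hkey : ∀ (z z' : GpH1.OneCocycleLC (K ≃ₐ[k] K) (SGA7.Pts K G)),
      z.cl = z'.cl ↔ ∃ c : SGA7.Pts K G, c • z'.1 F = z.1 F := by
    intro z z'
    rw [GpH1.OneCocycleLC.cl_eq_cl_iff]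
    constructor
    · rintro ⟨c, hc⟩
      refine ⟨c⁻¹, ?_⟩
      rw [hsmul, hc F, smul_inv', inv_inv]
    · rintro ⟨c, hc⟩
      refine ⟨c⁻¹, fun σ => cocycle_ext_frob z (conjCoc z' c⁻¹) ?_ σ⟩
      show z.1 F = c⁻¹⁻¹ * z'.1 F * F • c⁻¹
      rw [inv_inv, smul_inv', ← hc, hsmul]
  have hsurj : Function.Surjective f := by
    intro c
    induction c using Quotient.inductionOn with | h z => ?_
    exact ⟨z.1 F, (hkey _ _).2 ⟨1, by rw [one_smul]; exact (hw _).symm⟩⟩
  haveI : Finite (GpH1.H1lc (K ≃ₐ[k] K) (SGA7.Pts K G)) := Finite.of_surjective f hsurj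
  refine ⟨inferInstance, fun z hz => ?_⟩
  have hstab : ∀ z' : GpH1.OneCocycleLC (K ≃ₐ[k] K) (SGA7.Pts K G),
      Nat.card (fixGrp z') = Nat.card (MulAction.stabilizer (SGA7.Pts K G) (z'.1 F)) := fun z' => by
    refine Nat.card_congr (Equiv.subtypeEquivRight fun c => ?_)
    rw [MulAction.mem_stabilizer_iff, hsmul]
    constructor
    · intro h
      have h1 : z'.1 F * F • c = c * z'.1 F := mul_inv_eq_iff_eq_mul.1 (h F)
      rw [← h1, mul_inv_cancel_right]
    · intro h σ
      have h1 : z'.1 σ = (conjCoc z' c).1 σ := cocycle_ext_frob z' (conjCoc z' c) (by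
        show z'.1 F = c⁻¹ * z'.1 F * F • c
        rw [mul_inv_eq_iff_eq_mul] at h
        rw [mul_assoc, ← h, inv_mul_cancel_left]) σ
      rw [mul_inv_eq_iff_eq_mul]
      conv_rhs => rw [h1]
      show _ = c * (c⁻¹ * z'.1 σ * σ • c)
      group
  have := StMass44.sum_inv_card f hsurj (fun g g' => by
      rw [hkey, hw g, hw g']) (fun c => Nat.card (fixGrp (z c))) fun g => by
    show Nat.card (fixGrp (z (f g))) = _
    rw [hstab]
    obtain ⟨c, hc⟩ := (hkey _ _).1 (hz (f g))
    rw [hw g] at hc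
    rw [← hc]
    exact Nat.card_congr (MulAction.stabilizerEquivStabilizerOfOrbitRel
      (show MulAction.orbitRel _ _ _ g from ⟨c, rfl⟩)).toEquiv
  rw [this, div_self]
  exact_mod_cast Nat.card_pos.ne'

end Groth.Agent.PtCount44
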