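import Groth.Agent.PtCount44.Count
import Groth.Agent.PtCount44.FinClasses

/-!
The point count of the classifying category of a finite group scheme over a finite field.
-/

set_option autoImplicit false
set_option linter.style.haveILetI false
set_option backward.isDefEq.respectTransparency false
set_option backward.isDefEq.respectTransparency.types false
universe u

open CategoryTheory CategoryTheory.Limits MonoidalCategory CartesianMonoidalCategory AlgebraicGeometry
open Groth.Agent.AlgSt88
open scoped MonObj GrpObj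

namespace Groth.Agent.PtCount44

variable {k : Type u} [Field k] [Finite k] (G : Over (Spec (CommRingCat.of k))) [GrpObj G]

local notation "BG₀" => StkCnt.pts (AlgSt.BG Scheme.etalePrecoverage G) k

theorem locallyOfFiniteType_unit :
    LocallyOfFiniteType (𝟙_ (Over (Spec (CommRingCat.of k)))).hom ∧ QuasiCompact (𝟙_ (Over (Spec (CommRingCat.of k)))).hom :=
  ⟨inferInstanceAs (LocallyOfFiniteType (𝟙 (Spec (CommRingCat.of k)))),
    inferInstanceAs (QuasiCompact (𝟙 (Spec (CommRingCat.of k))))⟩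

theorem nat_card_fixPt {K : Type u} [Field K] [Algebra k K] (z : GpH1.OneCocycleLC (K ≃ₐ[k] K) (SGA7.Pts K G)) :
    Nat.card (FixPt (AlgSt.trivAction G) z) = 1 := by
  haveI : Subsingleton (FixPt (AlgSt.trivAction G) z) := ⟨fun x y => Subtype.ext (toUnit_unique _ _)⟩
  haveI : Nonempty (FixPt (AlgSt.trivAction G) z) := ⟨⟨toUnit _, fun _ => toUnit_unique _ _⟩⟩
  exact Nat.card_unique

omit [Finite k] in
theorem conj_comm {P Q : Over (Spec (CommRingCat.of k))} {a : AlgGrp.Action G P} {b : AlgGrp.Action G Q}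
    (e : NonAbH1.EquivIso a b) (w : NonAbH1.EquivIso b b) :
    a.act ≫ (e.iso ≪≫ w.iso ≪≫ e.iso.symm).hom = (G ◁ (e.iso ≪≫ w.iso ≪≫ e.iso.symm).hom) ≫ a.act := by
  have he' : b.act ≫ e.iso.inv = (G ◁ e.iso.inv) ≫ a.act := by
    rw [Iso.comp_inv_eq, Category.assoc, e.comm, ← MonoidalCategory.whiskerLeft_comp_assoc, Iso.inv_hom_id,
      MonoidalCategory.whiskerLeft_id, Category.id_comp]
  simp only [Iso.trans_hom, Iso.symm_hom, MonoidalCategory.whiskerLeft_comp, Category.assoc]
  rw [reassoc_of% e.comm, reassoc_of% w.comm, he']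

omit [Finite k] in
theorem conj_comm' {P Q : Over (Spec (CommRingCat.of k))} {a : AlgGrp.Action G P} {b : AlgGrp.Action G Q}
    (e : NonAbH1.EquivIso a b) (w : NonAbH1.EquivIso a a) :
    b.act ≫ (e.iso.symm ≪≫ w.iso ≪≫ e.iso).hom = (G ◁ (e.iso.symm ≪≫ w.iso ≪≫ e.iso).hom) ≫ b.act := by
  have he' : b.act ≫ e.iso.inv = (G ◁ e.iso.inv) ≫ a.act := by
    rw [Iso.comp_inv_eq, Category.assoc, e.comm, ← MonoidalCategory.whiskerLeft_comp_assoc, Iso.inv_hom_id,
      MonoidalCategory.whiskerLeft_id, Category.id_comp]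
  simp only [Iso.trans_hom, Iso.symm_hom, MonoidalCategory.whiskerLeft_comp, Category.assoc]
  rw [reassoc_of% he', reassoc_of% w.comm, e.comm]

omit [Finite k] in
theorem equivIso_ext {P Q : Over (Spec (CommRingCat.of k))} {a : AlgGrp.Action G P} {b : AlgGrp.Action G Q}
    {e e' : NonAbH1.EquivIso a b} (h : e.iso.hom = e'.iso.hom) : e = e' := by
  obtain ⟨e, he⟩ := e
  obtain ⟨e', he'⟩ := e'
  obtain rfl : e = e' := Iso.ext h
  rfl

variable [IsFinite G.hom]

theorem isEssFinite_BG_aux (K : Type u) [Field K] [Algebra k K] [IsAlgClosure k K] : StkCnt.IsEssFinite BG₀ := by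
  haveI : IsAffine G.left := isAffine_of_isAffineHom G.hom
  haveI : LocallyOfFiniteType (𝟙_ (Over (Spec (CommRingCat.of k)))).hom := (locallyOfFiniteType_unit).1
  haveI : Finite (SGA7.Pts K G) := finite_pts_of_isFinite
  obtain ⟨hfin, -⟩ := finite_H1lc_and_sum (k := k) (K := K) (G := G)
  haveI : ∀ A B : BG₀, Finite (A ⟶ B) := fun A B => by
    obtain ⟨e⟩ := nonempty_hom_equiv A B (Classical.choice (exists_point (K := K) A.2))
      (Classical.choice (exists_point (K := K) B.2))
    exact Finite.of_equiv _ e.symm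
  refine ⟨Finite.of_injective
    (Quotient.lift (fun A : BG₀ => objClass (K := K) A) (by rintro A B ⟨e⟩; exact objClass_eq_of_iso e)) ?_,
    fun A B => inferInstance⟩
  intro s t h
  induction s using Quotient.inductionOn with | h A => ?_
  induction t using Quotient.inductionOn with | h B => ?_
  haveI := lft (A := A.1) A.2
  haveI := lft (A := B.1) B.2
  obtain ⟨p, hp⟩ := exists_point_of_class A (ptCocLC (pseudo B.2)
    (Classical.choice (exists_point (K := K) B.2))) h
  obtain ⟨e⟩ := nonempty_hom_equiv A B p (Classical.choice (exists_point (K := K) B.2))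
  let m := e.symm ⟨1, fun σ => by rw [hp, smul_one, mul_one]; exact mul_inv_cancel _, toUnit_unique _ _⟩
  haveI := isIso_hom m
  exact Quotient.sound ⟨asIso m⟩

theorem count_BG_aux (K : Type u) [Field K] [Algebra k K] [IsAlgClosure k K] (h : StkCnt.IsEssFinite BG₀) :
    StkCnt.count BG₀ h = 1 := by
  haveI : IsAffine G.left := isAffine_of_isAffineHom G.hom
  obtain ⟨i1, i2⟩ := locallyOfFiniteType_unit (k := k)
  haveI := i1
  haveI := i2
  haveI : Finite (SGA7.Pts K G) := finite_pts_of_isFinite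
  obtain ⟨hfin, hsum⟩ := finite_H1lc_and_sum (k := k) (K := K) (G := G)
  letI := Fintype.ofFinite (GpH1.H1lc (K ≃ₐ[k] K) (SGA7.Pts K G))
  choose z hz using fun c : GpH1.H1lc (K ≃ₐ[k] K) (SGA7.Pts K G) =>
    Quotient.exists_rep (s := GpH1.cocycleSetoidLC _ _) c
  rw [ptCount_eq_sum z hz h, ← hsum z hz, finsum_eq_sum_of_fintype]
  refine Finset.sum_congr rfl fun c _ => ?_
  rw [nat_card_fixPt, Nat.cast_one, one_div]

/-- The category of points of the classifying category of a finite group scheme is essentially finite. -/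
theorem isEssFinite_BG : StkCnt.IsEssFinite BG₀ := isEssFinite_BG_aux G (AlgebraicClosure k)

/-- The mass of the classifying category is one. -/
theorem count_BG (h : StkCnt.IsEssFinite BG₀) : StkCnt.count BG₀ h = 1 := count_BG_aux G (AlgebraicClosure k) h

/-- A torsor for the flat topology as an object of the classifying category. -/
theorem exists_obj_of_torsor [LocallyOfFiniteType G.hom] (T : NonAbH1.TorsorSch G Scheme.fppfPrecoverage) :
    ∃ A : BG₀, Nonempty (NonAbH1.EquivIso T.act A.1.act) := by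
  let K := AlgebraicClosure k
  haveI : IsIso (lift T.act.act (snd G T.X)) := T.isTorsor.1
  have hlocq : NonAbH1.IsLocallyTrivialFor Scheme.fpqcPrecoverage T.X := by
    obtain ⟨R, hR, hsec⟩ := T.isTorsor.2
    exact ⟨R, Scheme.fppfPrecoverage_le_fpqcPrecoverage _ hR, hsec⟩
  haveI : LocallyOfFiniteType T.X.hom := by
    let π : T.X ⟶ 𝟙_ _ := toUnit _
    have hc : IsPullback T.act.act (snd G T.X) π π :=
      (AlgSt.isPullback_fst_snd T.X T.X).of_iso (asIso (lift T.act.act (snd G T.X))).symm (Iso.refl _) (Iso.refl _)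
        (Iso.refl _) (by rw [Iso.refl_hom, Category.comp_id, Iso.symm_hom, asIso_inv, IsIso.eq_inv_comp, lift_fst])
        (by rw [Iso.refl_hom, Category.comp_id, Iso.symm_hom, asIso_inv, IsIso.eq_inv_comp, lift_snd])
        (toUnit_unique _ _) (toUnit_unique _ _)
    have h1 : LocallyOfFiniteType T.X.hom := by
      refine of_selfPullback T.X.hom @LocallyOfFiniteType ?_ hlocq
      have hc' : IsPullback T.act.act.left (snd G T.X).left T.X.hom T.X.hom := hc.map (Over.forget _)
      have h0 : LocallyOfFiniteType (snd G T.X).left :=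
        MorphismProperty.pullback_snd (P := @LocallyOfFiniteType) _ _ inferInstance
      rw [← hc'.isoPullback_hom_snd] at h0
      exact (MorphismProperty.cancel_left_of_respectsIso @LocallyOfFiniteType _ _).1 h0
    exact h1
  haveI : Surjective T.X.hom := Sga84.surjective_of_isLocallyTrivialFor hlocq
  haveI : Nonempty ↥T.X.left := by
    obtain ⟨x, -⟩ := T.X.hom.surjective (IsLocalRing.closedPoint k : Spec (CommRingCat.of k))
    exact ⟨x⟩
  obtain ⟨q⟩ := AGF80.exists_geometric_point (k := k) T.X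
  let q' : SGA7.Pts K T.X := q
  obtain ⟨L, hL, q₀, -⟩ := exists_level q'
  have hπ : (isTerminalPt.from T.X).left = T.X.hom := by
    have h := Over.w (isTerminalPt.from T.X)
    rwa [pt_self_hom, Category.comp_id] at h
  refine ⟨⟨{ base := SGA7.pt (K := k) k, P := T.X, act := T.act, π := isTerminalPt.from T.X
             cart := (AlgSt.isPullback_fst_snd T.X T.X).of_iso (asIso (lift T.act.act (snd G T.X))).symm (Iso.refl _)
               (Iso.refl _) (isTerminalTensorUnit.uniqueUpToIso isTerminalPt) ?_ ?_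
               (isTerminalPt.hom_ext _ _) (isTerminalPt.hom_ext _ _)
             loc := ?_, φ := toUnit _, eqv := toUnit_unique _ _ }, rfl⟩, ⟨⟨Iso.refl _, by simp⟩⟩⟩
  · rw [Iso.refl_hom, Category.comp_id, Iso.symm_hom, asIso_inv, IsIso.eq_inv_comp, lift_fst]
  · rw [Iso.refl_hom, Category.comp_id, Iso.symm_hom, asIso_inv, IsIso.eq_inv_comp, lift_snd]
  · show NonAbH1.IsLocallyTrivialFor Scheme.etalePrecoverage
      (Over.mk (isTerminalPt.from T.X).left : Over (Spec (CommRingCat.of k)))
    rw [hπ]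
    refine ⟨_, singleton_pt_mem (k := k) L, ?_⟩
    rintro _ _ ⟨⟩
    exact ⟨q₀.left, Over.w q₀⟩

theorem isLocallyTrivial_fppf_aux (K : Type u) [Field K] [Algebra k K] [IsAlgClosure k K]
    [LocallyOfFiniteType G.hom] (A : BG₀) :
    NonAbH1.IsLocallyTrivialFor Scheme.fppfPrecoverage A.1.P := by
  haveI := lft (A := A.1) A.2
  obtain ⟨q⟩ := exists_point (K := K) (A := A.1) A.2
  obtain ⟨L, hL, q₀, -⟩ := exists_level q
  obtain ⟨hs, he⟩ := (Scheme.singleton_mem_precoverage_iff (P := @Etale) (SGA7.pt (K := k) L).hom).1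
    (show Presieve.singleton (SGA7.pt (K := k) L).hom ∈ Scheme.precoverage @Etale _ from singleton_pt_mem (k := k) L)
  haveI := he
  haveI : Surjective (SGA7.pt (K := k) L).hom := ⟨hs⟩
  refine ⟨_, Scheme.Hom.singleton_mem_fppfPrecoverage (SGA7.pt (K := k) L).hom, ?_⟩
  rintro _ _ ⟨⟩
  exact ⟨q₀.left, Over.w q₀⟩

/-- Isomorphism classes of objects are the classes of torsors, with the same automorphisms. -/
theorem h1Sch_mass :
    Finite (NonAbH1.H1Sch G Scheme.fppfPrecoverage) ∧
      ∑ᶠ ξ : NonAbH1.H1Sch G Scheme.fppfPrecoverage,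
        ((Nat.card (NonAbH1.EquivIso (Quot.out ξ).act (Quot.out ξ).act) : ℚ))⁻¹ = 1 := by
  haveI : IsAffine G.left := isAffine_of_isAffineHom G.hom
  haveI := (locallyOfFiniteType_unit (k := k)).1
  have hess := isEssFinite_BG G
  haveI := hess.finite_isoCl
  let toSch : BG₀ → NonAbH1.TorsorSch G Scheme.fppfPrecoverage := fun A =>
    ⟨A.1.P, A.1.act, pseudo A.2, isLocallyTrivial_fppf_aux G (AlgebraicClosure k) A⟩
  have hbase : ∀ (A B : BG₀) (f g : A.1.base ⟶ B.1.base), f = g :=
    fun A B f g => (isTerminalBase (A := B.1) B.2).hom_ext f g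
  have hhom : ∀ A B : BG₀, Nonempty ((A ⟶ B) ≃ NonAbH1.EquivIso A.1.act B.1.act) := fun A B => by
    refine ⟨{ toFun := fun m => ⟨haveI : IsIso m.1.top := ?_; asIso m.1.top, m.1.eqv⟩, invFun := fun e => ?_, left_inv := ?_, right_inv := ?_ }⟩
    · have := isIso_hom m
      exact ⟨(inv m).1.top, congrArg (fun t => t.1.top) (IsIso.hom_inv_id m), congrArg (fun t => t.1.top) (IsIso.inv_hom_id m)⟩
    · let m : A.1 ⟶ B.1 :=
        { base := eqToHom (A.2.trans B.2.symm)
          top := e.iso.hom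
          eqv := e.comm
          cart := IsPullback.of_horiz_isIso ⟨(isTerminalBase (A := B.1) B.2).hom_ext _ _⟩
          wφ := toUnit_unique _ _ }
      exact ⟨m, IsHomLift.of_fac' _ _ _ A.2 B.2 (hbase _ _ _ _)⟩
    · exact fun m => Functor.Fiber.hom_ext (AlgSt.QuotObj.hom_ext (hbase _ _ _ _) rfl)
    · rintro ⟨e, he⟩
      exact equivIso_ext G rfl
  let q : StkCnt.IsoCl BG₀ → NonAbH1.H1Sch G Scheme.fppfPrecoverage :=
    Quotient.lift (fun A => (toSch A).cl) (by
      rintro A B ⟨i⟩
      exact Quot.sound ⟨(hhom A B).some i.hom⟩)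
  let hequiv : Equivalence (fun P Q : NonAbH1.TorsorSch G Scheme.fppfPrecoverage =>
      Nonempty (NonAbH1.EquivIso P.act Q.act)) :=
    { refl := fun P => ⟨⟨Iso.refl _, by simp⟩⟩
      symm := fun {P Q} ⟨e⟩ => ⟨⟨e.iso.symm, by
        rw [Iso.symm_hom, Iso.comp_inv_eq, Category.assoc, e.comm, ← MonoidalCategory.whiskerLeft_comp_assoc,
          Iso.inv_hom_id, MonoidalCategory.whiskerLeft_id, Category.id_comp]⟩⟩
      trans := fun {P Q R} ⟨e⟩ ⟨e'⟩ => ⟨⟨e.iso ≪≫ e'.iso, by
        rw [Iso.trans_hom, reassoc_of% e.comm, e'.comm, MonoidalCategory.whiskerLeft_comp, Category.assoc]⟩⟩ }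
  have hq : Function.Bijective q := by
    constructor
    · intro s t h
      induction s using Quotient.inductionOn with | h A => ?_
      induction t using Quotient.inductionOn with | h B => ?_
      obtain ⟨e⟩ := hequiv.quot_mk_eq_iff (toSch A) (toSch B) |>.1 h
      haveI := isIso_hom ((hhom A B).some.symm e)
      exact Quotient.sound ⟨asIso ((hhom A B).some.symm e)⟩
    · intro ξ
      induction ξ using Quot.ind with | mk T => ?_
      obtain ⟨A, ⟨e⟩⟩ := exists_obj_of_torsor G T
      exact ⟨StkCnt.IsoCl.mk A, Quot.sound (hequiv.symm ⟨e⟩)⟩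
  refine ⟨Finite.of_surjective q hq.2, ?_⟩
  letI := Fintype.ofFinite (StkCnt.IsoCl BG₀)
  haveI := Finite.of_surjective q hq.2
  letI := Fintype.ofFinite (NonAbH1.H1Sch G Scheme.fppfPrecoverage)
  rw [← count_BG G hess, StkCnt.count_eq_sum hess, finsum_eq_sum_of_fintype]
  refine (Fintype.sum_bijective q hq _ _ fun t => ?_).symm
  induction t using Quotient.inductionOn with | h A => ?_
  show ((StkCnt.autCard BG₀ (StkCnt.IsoCl.mk A) : ℚ))⁻¹ = _
  have hmk : Quot.mk _ (Quot.out (q (Quotient.mk _ A))) = (toSch A).cl := Quot.out_eq _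
  obtain ⟨e⟩ := hequiv.quot_mk_eq_iff _ _ |>.1 hmk
  rw [StkCnt.autCard_mk, card_aut_eq, Nat.card_congr (hhom A A).some]
  congr 2
  exact Nat.card_congr
    { toFun := fun w => ⟨e.iso ≪≫ w.iso ≪≫ e.iso.symm, conj_comm G e w⟩
      invFun := fun w => ⟨e.iso.symm ≪≫ w.iso ≪≫ e.iso, conj_comm' G e w⟩
      left_inv := fun ⟨w, hw⟩ => by apply equivIso_ext G; simp only [Iso.trans_hom, Iso.symm_hom, Category.assoc, Iso.inv_hom_id_assoc, Iso.inv_hom_id, Iso.hom_inv_id, Iso.hom_inv_id_assoc, Category.comp_id]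
      right_inv := fun ⟨w, hw⟩ => by apply equivIso_ext G; simp only [Iso.trans_hom, Iso.symm_hom, Category.assoc, Iso.inv_hom_id_assoc, Iso.inv_hom_id, Iso.hom_inv_id, Iso.hom_inv_id_assoc, Category.comp_id] }

end Groth.Agent.PtCount44
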