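import Groth.Agent.PtCount44.BaseChangeObj
import Groth.Agent.PtCount44.BGCount

/-!
The point count of a classifying category over an extension field.
-/

set_option autoImplicit false
set_option linter.style.haveILetI false
set_option backward.isDefEq.respectTransparency false
set_option backward.isDefEq.respectTransparency.types false
universe u

open CategoryTheory CategoryTheory.Limits MonoidalCategory CartesianMonoidalCategory AlgebraicGeometry
open Groth.Agent.AlgSt88
open scoped MonObj GrpObj

namespace Groth.Agent.PtCount44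

variable {k : Type u} [Field k] [Finite k] {G X : Over (Spec (CommRingCat.of k))} [GrpObj G] [IsFinite G.hom]

theorem count_terminal_aux (K : Type u) [Field K] [Algebra k K] [IsAlgClosure k K] (hX : IsTerminal X)
    (aX : AlgGrp.Action G X) (h : StkCnt.IsEssFinite (StkCnt.pts (AlgSt.QuotSt Scheme.etalePrecoverage G aX) k)) :
    StkCnt.count (StkCnt.pts (AlgSt.QuotSt Scheme.etalePrecoverage G aX) k) h = 1 := by
  haveI : IsAffine G.left := isAffine_of_isAffineHom G.hom
  let e : X ≅ 𝟙_ _ := hX.uniqueUpToIso isTerminalTensorUnit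
  haveI : IsIso X.hom := by
    haveI : IsIso e.hom.left := inferInstanceAs (IsIso ((Over.forget _).map e.hom))
    have h : e.hom.left ≫ (𝟙_ (Over (Spec (CommRingCat.of k)))).hom = X.hom := Over.w e.hom
    rw [← h]
    exact inferInstanceAs (IsIso (e.hom.left ≫ 𝟙 _))
  haveI : Finite (SGA7.Pts K G) := finite_pts_of_isFinite
  obtain ⟨hfin, hsum⟩ := finite_H1lc_and_sum (k := k) (K := K) (G := G)
  letI := Fintype.ofFinite (GpH1.H1lc (K ≃ₐ[k] K) (SGA7.Pts K G))
  choose z hz using fun c : GpH1.H1lc (K ≃ₐ[k] K) (SGA7.Pts K G) =>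
    Quotient.exists_rep (s := GpH1.cocycleSetoidLC _ _) c
  rw [ptCount_eq_sum z hz h, ← hsum z hz, finsum_eq_sum_of_fintype]
  refine Finset.sum_congr rfl fun c _ => ?_
  haveI : Subsingleton (FixPt aX (z c)) := ⟨fun x y => Subtype.ext (hX.hom_ext _ _)⟩
  haveI : Nonempty (FixPt aX (z c)) := ⟨⟨hX.from _, fun _ => hX.hom_ext _ _⟩⟩
  rw [Nat.card_unique, Nat.cast_one, one_div]

/-- The mass of torsors over an extension field is one. -/
theorem count_BG_ext (k' : Type u) [Field k'] [Algebra k k'] [Module.Finite k k']
    (h : StkCnt.IsEssFinite (StkCnt.pts (AlgSt.BG Scheme.etalePrecoverage G) k')) :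
    StkCnt.count (StkCnt.pts (AlgSt.BG Scheme.etalePrecoverage G) k') h = 1 := by
  obtain ⟨h', e⟩ := count_bc h
  rw [← e]
  haveI : Finite k' := Module.finite_of_finite k
  haveI : IsFinite (Red.bc (Spec.map (CommRingCat.ofHom (algebraMap k k'))) G).hom :=
    MorphismProperty.pullback_snd (P := @IsFinite) _ _ inferInstance
  exact count_terminal_aux (AlgebraicClosure k')
    (IsTerminal.isTerminalObj (Over.pullback (Spec.map (CommRingCat.ofHom (algebraMap k k')))) _
      isTerminalTensorUnit) _ h'

end Groth.Agent.PtCount44
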