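import Groth.Agent.AlgSt88.QuotTriv
import Groth.Agent.Tors37.Pseudo
import Groth.Prelude.Def_ActBC

/-!
Torsors over a slice as torsors for the base-changed group.
-/

set_option autoImplicit false
set_option linter.style.haveILetI false
set_option backward.isDefEq.respectTransparency false
set_option backward.isDefEq.respectTransparency.types false
universe u

open CategoryTheory CategoryTheory.Limits MonoidalCategory CartesianMonoidalCategory AlgebraicGeometry
open Groth.Agent.AlgSt88
open scoped MonObj GrpObj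

namespace Groth.Agent.PtCount44

variable {S S' : Scheme.{u}} (f : S' ⟶ S)

local notation "he" => Adjunction.homEquiv (Over.mapPullbackAdj f)

theorem map_inj {T T' : Over S'} {x y : T ⟶ T'} (h : (Over.map f).map x = (Over.map f).map y) : x = y :=
  Over.OverMorphism.ext (congrArg (fun t => t.left) h)

/-- The structure morphism of an object over the smaller base, seen over the larger one. -/
noncomputable def canTo (T : Over S') : (Over.map f).obj T ⟶ Over.mk f := Over.homMk T.hom rfl

theorem map_canTo {T T' : Over S'} (w : T ⟶ T') : (Over.map f).map w ≫ canTo f T' = canTo f T :=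
  Over.OverMorphism.ext (Over.w w)

variable {P : Over S} (π₀ : P ⟶ Over.mk f)

/-- The same scheme over the smaller base. -/
noncomputable abbrev restrictBase : Over S' := Over.mk π₀.left

/-- Back to the larger base. -/
noncomputable def baseIso : (Over.map f).obj (restrictBase f π₀) ≅ P :=
  Over.isoMk (Iso.refl _) (by
    show 𝟙 _ ≫ P.hom = π₀.left ≫ f
    rw [Category.id_comp]
    exact (Over.w π₀).symm)

variable {T T' : Over S'}

/-- A point over the smaller base as a point over the larger one. -/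
noncomputable def dn (x : T ⟶ restrictBase f π₀) : (Over.map f).obj T ⟶ P :=
  (Over.map f).map x ≫ (baseIso f π₀).hom

theorem dn_left (x : T ⟶ restrictBase f π₀) : (dn f π₀ x).left = x.left := Category.comp_id _

theorem dn_π (x : T ⟶ restrictBase f π₀) : dn f π₀ x ≫ π₀ = canTo f T := by
  ext1
  show (dn f π₀ x).left ≫ π₀.left = T.hom
  rw [dn_left]
  exact Over.w x

theorem dn_injective {x y : T ⟶ restrictBase f π₀} (h : dn f π₀ x = dn f π₀ y) : x = y := by
  have := congrArg (fun t => t.left) h
  rw [dn_left, dn_left] at this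
  exact Over.OverMorphism.ext this

theorem comp_dn (w : T' ⟶ T) (x : T ⟶ restrictBase f π₀) :
    (Over.map f).map w ≫ dn f π₀ x = dn f π₀ (w ≫ x) := by
  simp only [dn, Functor.map_comp, Category.assoc]

theorem exists_dn (y : (Over.map f).obj T ⟶ P) (h : y ≫ π₀ = canTo f T) :
    ∃ x : T ⟶ restrictBase f π₀, dn f π₀ x = y :=
  ⟨Over.homMk y.left (congrArg (fun t => t.left) h), Over.OverMorphism.ext (dn_left f π₀ _)⟩

/-- Every point of an object of the larger base over the slice comes from the smaller base. -/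
theorem exists_model {W : Over S} (t : W ⟶ Over.mk f) :
    ∃ (T : Over S') (e : (Over.map f).obj T ≅ W), e.hom ≫ t = canTo f T := by
  refine ⟨Over.mk t.left, Over.isoMk (Iso.refl _) ?_, ?_⟩
  · show 𝟙 _ ≫ W.hom = t.left ≫ f
    rw [Category.id_comp]
    exact (Over.w t).symm
  · exact Over.OverMorphism.ext (Category.id_comp _)

section Group

variable {G : Over S} [GrpObj G]

theorem heSymm_mul (g h : T ⟶ Red.bc f G) : (he T G).symm (g * h) = (he T G).symm g * (he T G).symm h := by
  apply (he T G).injective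
  rw [AlgGrp.Action.homEquiv_mul, Equiv.apply_symm_apply, Equiv.apply_symm_apply, Equiv.apply_symm_apply]

theorem heSymm_one : (he T G).symm (1 : T ⟶ Red.bc f G) = 1 := by
  have h : (he T G).symm (1 : T ⟶ Red.bc f G) * (he T G).symm 1 = (he T G).symm 1 * 1 := by
    rw [← heSymm_mul, mul_one, mul_one]
  exact mul_left_cancel h

theorem map_heSymm (w : T' ⟶ T) (g : T ⟶ Red.bc f G) :
    (Over.map f).map w ≫ (he T G).symm g = (he T' G).symm (w ≫ g) :=
  ((Over.mapPullbackAdj f).homEquiv_naturality_left_symm w g).symm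

variable (a : AlgGrp.Action G P)

theorem exists_restrictAction (hπ : a.act ≫ π₀ = snd G P ≫ π₀) :
    ∃ a' : AlgGrp.Action (Red.bc f G) (restrictBase f π₀),
      ∀ {T : Over S'} (g : T ⟶ Red.bc f G) (x : T ⟶ restrictBase f π₀),
        dn f π₀ (lift g x ≫ a'.act) = lift ((he T G).symm g) (dn f π₀ x) ≫ a.act := by
  have hw : ∀ {W : Over S} (g : W ⟶ G) (p : W ⟶ P), (lift g p ≫ a.act) ≫ π₀ = p ≫ π₀ := fun g p => by
    rw [Category.assoc, hπ, lift_snd_assoc]
  obtain ⟨act', hact'⟩ := exists_dn f π₀
    (lift ((he _ G).symm (fst (Red.bc f G) (restrictBase f π₀))) (dn f π₀ (snd (Red.bc f G) (restrictBase f π₀))) ≫ a.act)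
    (by rw [hw, dn_π])
  have key : ∀ {T : Over S'} (g : T ⟶ Red.bc f G) (x : T ⟶ restrictBase f π₀),
      dn f π₀ (lift g x ≫ act') = lift ((he T G).symm g) (dn f π₀ x) ≫ a.act := by
    intro T g x
    rw [← comp_dn, hact', ← Category.assoc, comp_lift, map_heSymm, comp_dn, lift_fst, lift_snd]
  have hone : ∀ {T : Over S'} (x : T ⟶ restrictBase f π₀), lift (1 : T ⟶ Red.bc f G) x ≫ act' = x := fun x => by
    apply dn_injective
    rw [key, heSymm_one, act_lift_one]
  have hmul : ∀ {T : Over S'} (g g' : T ⟶ Red.bc f G) (x : T ⟶ restrictBase f π₀),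
      lift (g * g') x ≫ act' = lift g (lift g' x ≫ act') ≫ act' := fun g g' x => by
    apply dn_injective
    rw [key, key, key, heSymm_mul, act_lift_mul]
  refine ⟨{ act := act', one_act := ?_, mul_act := ?_ }, key⟩
  · have h : (η[Red.bc f G] ▷ restrictBase f π₀) = lift (1 : _ ⟶ Red.bc f G) (snd _ _) := by
      apply CartesianMonoidalCategory.hom_ext
      · rw [whiskerRight_fst, toUnit_unique (fst _ _) (toUnit _), lift_fst, ← Hom.one_def]
      · simp
    rw [h, hone, leftUnitor_hom]
  · have h : (μ[Red.bc f G] ▷ restrictBase f π₀) =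
        lift ((fst _ _ ≫ fst (Red.bc f G) (Red.bc f G)) * (fst _ _ ≫ snd (Red.bc f G) (Red.bc f G))) (snd _ _) := by
      apply CartesianMonoidalCategory.hom_ext
      · rw [whiskerRight_fst, lift_fst, ← MonObj.comp_mul, Hom.mul_def, lift_fst_snd, Category.id_comp]
      · simp
    have h' : (α_ (Red.bc f G) (Red.bc f G) (restrictBase f π₀)).hom ≫ (Red.bc f G ◁ act') =
        lift (fst _ _ ≫ fst (Red.bc f G) (Red.bc f G))
          (lift (fst _ _ ≫ snd (Red.bc f G) (Red.bc f G)) (snd _ _) ≫ act') := by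
      apply CartesianMonoidalCategory.hom_ext
      · simp
      · rw [lift_snd, Category.assoc, whiskerLeft_snd, ← Category.assoc]
        congr 1
        apply CartesianMonoidalCategory.hom_ext <;> simp
    rw [h, hmul, ← h', Category.assoc]

theorem pseudo_restrict (hc : IsPullback a.act (snd G P) π₀ π₀)
    (a' : AlgGrp.Action (Red.bc f G) (restrictBase f π₀))
    (key : ∀ {T : Over S'} (g : T ⟶ Red.bc f G) (x : T ⟶ restrictBase f π₀),
        dn f π₀ (lift g x ≫ a'.act) = lift ((he T G).symm g) (dn f π₀ x) ≫ a.act) :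
    NonAbH1.IsPseudoTorsorSch a' := by
  refine Tors37.isPseudoTorsorSch_of_existsUnique a' fun {Z} p q => ?_
  let w : (Over.map f).obj Z ⟶ G ⊗ P := hc.lift (dn f π₀ q) (dn f π₀ p) (by rw [dn_π, dn_π])
  have h1 : w ≫ a.act = dn f π₀ q := hc.lift_fst _ _ _
  have h2 : w ≫ snd G P = dn f π₀ p := hc.lift_snd _ _ _
  refine ⟨he Z G (w ≫ fst G P), dn_injective f π₀ ?_, fun g hg => ?_⟩
  · rw [key, Equiv.symm_apply_apply, ← h1]
    congr 1
    exact CartesianMonoidalCategory.hom_ext _ _ (by simp) (by simp [h2])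
  · have h3 : lift ((he Z G).symm g) (dn f π₀ p) ≫ a.act = dn f π₀ q := by rw [← key, hg]
    have h4 : lift ((he Z G).symm g) (dn f π₀ p) = w := hc.hom_ext (h3.trans h1.symm) ((lift_snd _ _).trans h2.symm)
    rw [← h4, lift_fst, Equiv.apply_symm_apply]

variable {X : Over S} (aX : AlgGrp.Action G X) {φ : P ⟶ X}

theorem eqv_restrict (hφ : a.act ≫ φ = (G ◁ φ) ≫ aX.act)
    (a' : AlgGrp.Action (Red.bc f G) (restrictBase f π₀))
    (key : ∀ {T : Over S'} (g : T ⟶ Red.bc f G) (x : T ⟶ restrictBase f π₀),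
        dn f π₀ (lift g x ≫ a'.act) = lift ((he T G).symm g) (dn f π₀ x) ≫ a.act) :
    a'.act ≫ he _ X ((baseIso f π₀).hom ≫ φ) =
      (Red.bc f G ◁ he _ X ((baseIso f π₀).hom ≫ φ)) ≫ (aX.bc f).act := by
  have hn : ∀ {T : Over S'} (x : T ⟶ restrictBase f π₀), x ≫ he _ X ((baseIso f π₀).hom ≫ φ) = he T X (dn f π₀ x ≫ φ) := by
    intro T x
    rw [← Adjunction.homEquiv_naturality_left, dn, Category.assoc]
  rw [hn, show (Red.bc f G ◁ he (restrictBase f π₀) X ((baseIso f π₀).hom ≫ φ)) =
      lift (fst _ _) (snd _ _ ≫ he (restrictBase f π₀) X ((baseIso f π₀).hom ≫ φ)) by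
    apply CartesianMonoidalCategory.hom_ext <;> simp, hn]
  conv_rhs => rw [← Equiv.apply_symm_apply (he (Red.bc f G ⊗ restrictBase f π₀) G) (fst _ _),
    AlgGrp.Action.lift_homEquiv_bc_act]
  congr 1
  have h := key (fst (Red.bc f G) (restrictBase f π₀)) (snd _ _)
  rw [lift_fst_snd, Category.id_comp] at h
  rw [h, Category.assoc, hφ, lift_whiskerLeft_assoc]

end Group

section Extend

variable {G : Over S} [GrpObj G] {Q : Over S'} (b : AlgGrp.Action (Red.bc f G) Q)

/-- A torsor of the base-changed group over the smaller base as one over the larger base. -/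
theorem exists_extendAction :
    ∃ a : AlgGrp.Action G ((Over.map f).obj Q),
      a.act ≫ canTo f Q = snd G _ ≫ canTo f Q ∧
      ∀ {T : Over S'} (g : (Over.map f).obj T ⟶ G) (y : T ⟶ Q),
        lift g ((Over.map f).map y) ≫ a.act = (Over.map f).map (lift (he T G g) y ≫ b.act) := by
  obtain ⟨T₀, e₀, he₀⟩ := exists_model f (snd G ((Over.map f).obj Q) ≫ canTo f Q)
  obtain ⟨y₀, hy₀⟩ : ∃ y₀ : T₀ ⟶ Q, (Over.map f).map y₀ = e₀.hom ≫ snd G _ := by
    refine ⟨Over.homMk (e₀.hom ≫ snd G ((Over.map f).obj Q)).left ?_, Over.OverMorphism.ext rfl⟩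
    exact congrArg (fun t => t.left) ((Category.assoc _ _ _).trans he₀)
  let act : G ⊗ (Over.map f).obj Q ⟶ (Over.map f).obj Q :=
    e₀.inv ≫ (Over.map f).map (lift (he T₀ G (e₀.hom ≫ fst G _)) y₀ ≫ b.act)
  have hπ : act ≫ canTo f Q = snd G _ ≫ canTo f Q := by
    rw [Category.assoc, map_canTo, ← he₀, Iso.inv_hom_id_assoc]
  have key : ∀ {T : Over S'} (g : (Over.map f).obj T ⟶ G) (y : T ⟶ Q),
      lift g ((Over.map f).map y) ≫ act = (Over.map f).map (lift (he T G g) y ≫ b.act) := by
    intro T g y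
    obtain ⟨v, hv⟩ : ∃ v : T ⟶ T₀, (Over.map f).map v ≫ e₀.hom = lift g ((Over.map f).map y) := by
      have hq : (lift g ((Over.map f).map y) ≫ e₀.inv) ≫ canTo f T₀ = canTo f T := by
        rw [← he₀, Category.assoc, Iso.inv_hom_id_assoc, lift_snd_assoc, map_canTo]
      refine ⟨Over.homMk (lift g ((Over.map f).map y) ≫ e₀.inv).left (congrArg (fun t => t.left) hq), ?_⟩
      rw [← Iso.eq_comp_inv]
      exact Over.OverMorphism.ext rfl
    have hv1 : v ≫ y₀ = y := by
      apply map_inj f
      rw [Functor.map_comp, hy₀, ← Category.assoc, hv, lift_snd]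
    rw [← hv, Category.assoc, Iso.hom_inv_id_assoc, ← Functor.map_comp, ← Category.assoc, comp_lift,
      ← Adjunction.homEquiv_naturality_left, ← Category.assoc, hv, lift_fst, hv1]
  have model : ∀ {W : Over S} (p : W ⟶ (Over.map f).obj Q),
      ∃ (T : Over S') (e : (Over.map f).obj T ≅ W) (y : T ⟶ Q), e.hom ≫ p = (Over.map f).map y := by
    intro W p
    obtain ⟨T, e, hee⟩ := exists_model f (p ≫ canTo f Q)
    exact ⟨T, e, Over.homMk (e.hom ≫ p).left (congrArg (fun t => t.left) ((Category.assoc _ _ _).trans hee)),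
      Over.OverMorphism.ext rfl⟩
  have hone : ∀ {W : Over S} (p : W ⟶ (Over.map f).obj Q), lift (1 : W ⟶ G) p ≫ act = p := by
    intro W p
    obtain ⟨T, e, y, hy⟩ := model p
    rw [← cancel_epi e.hom, comp_lift_assoc, MonObj.comp_one, hy, key]
    have h1 : he T G (1 : (Over.map f).obj T ⟶ G) = 1 := by
      have h : he T G (1 : (Over.map f).obj T ⟶ G) * he T G 1 = he T G 1 * 1 := by
        rw [← AlgGrp.Action.homEquiv_mul, mul_one, mul_one]
      exact mul_left_cancel h
    rw [h1, act_lift_one]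
  have hmul : ∀ {W : Over S} (g g' : W ⟶ G) (p : W ⟶ (Over.map f).obj Q),
      lift (g * g') p ≫ act = lift g (lift g' p ≫ act) ≫ act := by
    intro W g g' p
    obtain ⟨T, e, y, hy⟩ := model p
    rw [← cancel_epi e.hom]
    simp only [comp_lift_assoc, comp_lift, MonObj.comp_mul, hy, key, AlgGrp.Action.homEquiv_mul, act_lift_mul]
  refine ⟨{ act := act, one_act := ?_, mul_act := ?_ }, hπ, key⟩
  · have h : (η[G] ▷ (Over.map f).obj Q) = lift (1 : _ ⟶ G) (snd _ _) := by
      apply CartesianMonoidalCategory.hom_ext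
      · rw [whiskerRight_fst, toUnit_unique (fst _ _) (toUnit _), lift_fst, ← Hom.one_def]
      · simp
    rw [h, hone, leftUnitor_hom]
  · have h : (μ[G] ▷ (Over.map f).obj Q) =
        lift ((fst _ _ ≫ fst G G) * (fst _ _ ≫ snd G G)) (snd _ _) := by
      apply CartesianMonoidalCategory.hom_ext
      · rw [whiskerRight_fst, lift_fst, ← MonObj.comp_mul, Hom.mul_def, lift_fst_snd, Category.id_comp]
      · simp
    have h' : (α_ G G ((Over.map f).obj Q)).hom ≫ (G ◁ act) =
        lift (fst _ _ ≫ fst G G) (lift (fst _ _ ≫ snd G G) (snd _ _) ≫ act) := by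
      apply CartesianMonoidalCategory.hom_ext
      · simp
      · rw [lift_snd, Category.assoc, whiskerLeft_snd, ← Category.assoc]
        congr 1
        apply CartesianMonoidalCategory.hom_ext <;> simp
    rw [h, hmul, ← h', Category.assoc]

/-- The torsor square of the extended action. -/
theorem isPullback_extend (a : AlgGrp.Action G ((Over.map f).obj Q))
    (hπ : a.act ≫ canTo f Q = snd G _ ≫ canTo f Q)
    (key : ∀ {T : Over S'} (g : (Over.map f).obj T ⟶ G) (y : T ⟶ Q),
        lift g ((Over.map f).map y) ≫ a.act = (Over.map f).map (lift (he T G g) y ≫ b.act))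
    (hb : NonAbH1.IsPseudoTorsorSch b) : IsPullback a.act (snd G _) (canTo f Q) (canTo f Q) := by
  haveI : IsIso (lift b.act (snd (Red.bc f G) Q)) := hb
  have hex : ∀ {W : Over S} (q p : W ⟶ (Over.map f).obj Q), q ≫ canTo f Q = p ≫ canTo f Q →
      ∃! w : W ⟶ G ⊗ (Over.map f).obj Q, w ≫ a.act = q ∧ w ≫ snd G _ = p := by
    intro W q p h
    obtain ⟨T, e, hee⟩ := exists_model f (p ≫ canTo f Q)
    let yp : T ⟶ Q := Over.homMk (e.hom ≫ p).left (congrArg (fun t => t.left) ((Category.assoc _ _ _).trans hee))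
    let yq : T ⟶ Q := Over.homMk (e.hom ≫ q).left
      (congrArg (fun t => t.left) ((Category.assoc _ _ _).trans ((congrArg (e.hom ≫ ·) h).trans hee)))
    have hp : (Over.map f).map yp = e.hom ≫ p := Over.OverMorphism.ext rfl
    have hq : (Over.map f).map yq = e.hom ≫ q := Over.OverMorphism.ext rfl
    let d : T ⟶ Red.bc f G := lift yq yp ≫ inv (lift b.act (snd (Red.bc f G) Q)) ≫ fst _ _
    have hd : lift d yp ≫ b.act = yq := by
      have hw : (lift yq yp ≫ inv (lift b.act (snd (Red.bc f G) Q))) ≫ lift b.act (snd _ _) = lift yq yp := by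
        rw [Category.assoc, IsIso.inv_hom_id, Category.comp_id]
      have h1 := congrArg (fun t => t ≫ fst Q Q) hw
      have h2 := congrArg (fun t => t ≫ snd Q Q) hw
      simp only [Category.assoc, lift_fst, lift_snd] at h1 h2
      refine Eq.trans ?_ h1
      rw [← Category.assoc (lift yq yp)]
      congr 1
      exact CartesianMonoidalCategory.hom_ext _ _ (by simp [d]) (by simp [h2])
    have huniq : ∀ d' : T ⟶ Red.bc f G, lift d' yp ≫ b.act = yq → d' = d := fun d' hd' => by
      have : lift d' yp = lift d yp := by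
        rw [← cancel_mono (lift b.act (snd (Red.bc f G) Q))]
        apply CartesianMonoidalCategory.hom_ext
        · simp [hd', hd]
        · simp
      simpa using congrArg (fun t => t ≫ fst _ _) this
    refine ⟨e.inv ≫ lift ((he T G).symm d) (e.hom ≫ p), ⟨?_, ?_⟩, fun w hw => ?_⟩
    · rw [Category.assoc, ← hp, key, Equiv.apply_symm_apply, hd, hq, Iso.inv_hom_id_assoc]
    · rw [Category.assoc, lift_snd, Iso.inv_hom_id_assoc]
    · rw [Iso.eq_inv_comp]
      apply CartesianMonoidalCategory.hom_ext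
      · rw [lift_fst, Category.assoc, Equiv.eq_symm_apply]
        apply huniq
        apply map_inj f
        rw [← key, hq, ← hw.1, hp, ← hw.2, ← comp_lift_assoc]
        rw [← comp_lift, lift_fst_snd, Category.comp_id]
      · rw [lift_snd, Category.assoc, hw.2]
  exact IsPullback.of_isLimit' ⟨hπ⟩ (PullbackCone.IsLimit.mk _
    (fun c => (hex c.fst c.snd c.condition).exists.choose)
    (fun c => (hex c.fst c.snd c.condition).exists.choose_spec.1)
    (fun c => (hex c.fst c.snd c.condition).exists.choose_spec.2)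
    (fun c m h1 h2 => (hex c.fst c.snd c.condition).unique ⟨h1, h2⟩ (hex c.fst c.snd c.condition).exists.choose_spec))

end Extend

end Groth.Agent.PtCount44
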