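import Groth.Prelude.Def_StkCnt
import Mathlib.CategoryTheory.Groupoid

/-!
Invariance of the point count of a groupoid.
-/

set_option autoImplicit false
universe v v' w w'

open CategoryTheory

namespace Groth.Agent.PtCount44

/-- Two groupoids with the same homomorphism sets along an essentially surjective map have the same count. -/
theorem count_eq_of_homEquiv {C : Type w} [Category.{v} C] {D : Type w'} [Category.{v'} D]
    (hC : ∀ {A B : C} (m : A ⟶ B), IsIso m) (hD : ∀ {A B : D} (m : A ⟶ B), IsIso m) (o : C → D)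
    (hom : ∀ A B : C, Nonempty ((A ⟶ B) ≃ (o A ⟶ o B))) (surj : ∀ B : D, ∃ A : C, Nonempty (o A ≅ B))
    (h : StkCnt.IsEssFinite C) : ∃ h' : StkCnt.IsEssFinite D, StkCnt.count D h' = StkCnt.count C h := by
  have hauto : ∀ {E : Type w} [Category.{v} E] (hE : ∀ {A B : E} (m : A ⟶ B), IsIso m) (A : E),
      Nat.card (Aut A) = Nat.card (A ⟶ A) := fun hE A =>
    Nat.card_congr (Equiv.ofBijective (fun a : Aut A => a.hom)
      ⟨fun a b h => Iso.ext h, fun m => haveI := hE m; ⟨asIso m, rfl⟩⟩)
  have hautoD : ∀ A : D, Nat.card (Aut A) = Nat.card (A ⟶ A) := fun A =>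
    Nat.card_congr (Equiv.ofBijective (fun a : Aut A => a.hom)
      ⟨fun a b h => Iso.ext h, fun m => haveI := hD m; ⟨asIso m, rfl⟩⟩)
  let q : StkCnt.IsoCl C → StkCnt.IsoCl D := Quotient.map o (by
    rintro A B ⟨i⟩
    haveI := hD ((hom A B).some i.hom)
    exact ⟨asIso ((hom A B).some i.hom)⟩)
  have hq : Function.Bijective q := by
    constructor
    · intro s t e
      induction s using Quotient.inductionOn with | h A => ?_
      induction t using Quotient.inductionOn with | h B => ?_
      obtain ⟨i⟩ := Quotient.exact e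
      haveI := hC ((hom A B).some.symm i.hom)
      exact Quotient.sound ⟨asIso ((hom A B).some.symm i.hom)⟩
    · intro t
      induction t using Quotient.inductionOn with | h B => ?_
      obtain ⟨A, i⟩ := surj B
      exact ⟨StkCnt.IsoCl.mk A, Quotient.sound i⟩
  haveI := h.finite_isoCl
  have h' : StkCnt.IsEssFinite D := by
    refine ⟨Finite.of_surjective q hq.2, fun A B => ?_⟩
    obtain ⟨A', ⟨a⟩⟩ := surj A
    obtain ⟨B', ⟨b⟩⟩ := surj B
    haveI := h.finite_hom A' B'
    haveI : Finite (o A' ⟶ o B') := Finite.of_equiv _ (hom A' B').some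
    exact Finite.of_equiv _ (a.homCongr b)
  refine ⟨h', ?_⟩
  haveI := h'.finite_isoCl
  letI := Fintype.ofFinite (StkCnt.IsoCl C)
  letI := Fintype.ofFinite (StkCnt.IsoCl D)
  rw [StkCnt.count_eq_sum h, StkCnt.count_eq_sum h']
  refine (Fintype.sum_bijective q hq _ _ fun t => ?_).symm
  induction t using Quotient.inductionOn with | h A => ?_
  show ((StkCnt.autCard C (StkCnt.IsoCl.mk A) : ℚ))⁻¹ = ((StkCnt.autCard D (StkCnt.IsoCl.mk (o A)) : ℚ))⁻¹
  rw [StkCnt.autCard_mk, StkCnt.autCard_mk, hauto hC A, hautoD, Nat.card_congr (hom A A).some]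

end Groth.Agent.PtCount44
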