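import Groth.Agent.PtCount44.Realise

/-!
A torsor with a prescribed locally constant cocycle over an algebraic closure.
-/

set_option autoImplicit false
set_option linter.style.haveILetI false
set_option backward.isDefEq.respectTransparency false
set_option backward.isDefEq.respectTransparency.types false
universe u

open CategoryTheory CategoryTheory.Limits MonoidalCategory CartesianMonoidalCategory AlgebraicGeometry
open Groth.Agent.AlgSt88
open scoped MonObj GrpObj

namespace Groth.Agent.PtCount44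

variable {k : Type u} [Field k] [Finite k] {K : Type u} [Field K] [Algebra k K] [IsAlgClosure k K]
variable {G : Over (Spec (CommRingCat.of k))} [GrpObj G]

theorem singleton_pt_mem (L : Type u) [Field L] [Algebra k L] [FiniteDimensional k L] :
    Presieve.singleton (SGA7.pt (K := k) L).hom ∈ Scheme.etalePrecoverage (Spec (CommRingCat.of k)) := by
  haveI : Algebra.IsSeparable k L := inferInstance
  haveI : Algebra.FormallyEtale k L := Algebra.FormallyEtale.of_isSeparable k L
  haveI : Algebra.FinitePresentation k L := Algebra.FinitePresentation.of_finiteType.1 inferInstance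
  haveI : Algebra.Etale k L := {}
  have he : Etale (SGA7.pt (K := k) L).hom :=
    (HasRingHomProperty.Spec_iff (P := @Etale)).2 (RingHom.etale_algebraMap.2 inferInstance)
  rw [Scheme.etalePrecoverage, Scheme.singleton_mem_precoverage_iff]
  exact ⟨fun x => ⟨IsLocalRing.closedPoint L, Subsingleton.elim (α := PrimeSpectrum k) _ x⟩, he⟩

/-- A cocycle with locally constant values comes from a finite Galois level. -/
theorem exists_level_cocycle [LocallyOfFiniteType G.hom]
    (z : GpH1.OneCocycleLC (K ≃ₐ[k] K) (SGA7.Pts K G)) :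
    ∃ L : IntermediateField k K, ∃ _ : FiniteDimensional k L, ∃ _ : Normal k L,
      ∃ w : GpH1.OneCocycle (L ≃ₐ[k] L) (SGA7.Pts L G),
        ∀ σ, z.1 σ = lv L ≫ w (AlgEquiv.restrictNormalHom L σ) := by
  haveI : Normal k K := IsAlgClosure.normal k K
  obtain ⟨E, hE, hEn, hu⟩ := GalH1.exists_factor_of_isLocallyConstant z.1.1 z.2
  haveI : Finite (E ≃ₐ[k] E) := inferInstance
  have hsur := AlgEquiv.restrictNormalHom_surjective (F := k) (K₁ := E) K
  choose lift' hlift using hsur
  have hz : ∀ σ τ, AlgEquiv.restrictNormalHom E σ = AlgEquiv.restrictNormalHom E τ → z.1 σ = z.1 τ := fun σ τ h => by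
    have h1 : z.1 (σ⁻¹ * τ) = 1 :=
      (hu _ (GalH1.inv_mul_mem_fixingSubgroup E h)).trans (GalTw.oneCocycle_one z.1)
    have h2 := z.1.2 σ (σ⁻¹ * τ)
    rw [mul_inv_cancel_left, h1, smul_one, mul_one] at h2
    exact h2.symm
  choose Ls hLs xs hxs using fun s : E ≃ₐ[k] E => exists_level (z.1 (lift' s))
  haveI : ∀ s, FiniteDimensional k (Ls s) := hLs
  let L : IntermediateField k K := E ⊔ ⨆ s, Ls s
  haveI : FiniteDimensional k L := inferInstance
  haveI := isGalois_level L
  haveI : Normal k L := inferInstance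
  haveI := epi_lv L
  have hv : ∀ σ, ∃ v : SGA7.Pts L G, z.1 σ = lv L ≫ v := fun σ => by
    let s := AlgEquiv.restrictNormalHom E σ
    refine ⟨lv' ((le_iSup Ls s).trans le_sup_right : Ls s ≤ L) ≫ xs s, ?_⟩
    rw [lv_lv'_assoc, hxs]
    exact hz _ _ (hlift s).symm
  have hsurL := AlgEquiv.restrictNormalHom_surjective (F := k) (K₁ := L) K
  choose liftL hliftL using hsurL
  choose v hvv using hv
  have hzL : ∀ σ, z.1 σ = z.1 (liftL (AlgEquiv.restrictNormalHom L σ)) := fun σ => by
    apply hz
    ext x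
    rw [AlgEquiv.restrictNormalHom_apply, AlgEquiv.restrictNormalHom_apply]
    have h : algebraMap L K (AlgEquiv.restrictNormalHom L (liftL (AlgEquiv.restrictNormalHom L σ)) ⟨x, (le_sup_left : E ≤ L) x.2⟩) =
        algebraMap L K (AlgEquiv.restrictNormalHom L σ ⟨x, (le_sup_left : E ≤ L) x.2⟩) := by rw [hliftL]
    simpa [AlgEquiv.restrictNormalHom_apply] using h.symm
  refine ⟨L, inferInstance, inferInstance, ⟨fun s => v (liftL s), fun s t => ?_⟩, fun σ => ?_⟩
  · rw [← cancel_epi (lv L), ← hvv, MonObj.comp_mul, ← hvv, GalTw.pts_smul_def]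
    conv_rhs => arg 2; rw [← hliftL s, lv_specAut_assoc, ← hvv, ← GalTw.pts_smul_def]
    rw [hzL (liftL (s * t)), hliftL, ← z.1.2, hzL (liftL s * liftL t), map_mul, hliftL, hliftL]
  · rw [← hvv]
    exact hzL σ

/-- Every locally constant cocycle is the cocycle of a geometric point of an etale torsor. -/
theorem exists_torsor [IsAffine G.left] [LocallyOfFiniteType G.hom]
    (z : GpH1.OneCocycleLC (K ≃ₐ[k] K) (SGA7.Pts K G)) :
    ∃ (P : Over (Spec (CommRingCat.of k))) (_ : LocallyOfFiniteType P.hom) (a : AlgGrp.Action G P)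
      (hP : NonAbH1.IsPseudoTorsorSch a) (p : SGA7.Pts K P),
      IsAffine P.left ∧ NonAbH1.IsLocallyTrivialFor Scheme.etalePrecoverage P ∧ ∀ σ, ptCoc hP p σ = z.1 σ := by
  obtain ⟨L, hL, hLn, w, hw⟩ := exists_level_cocycle z
  haveI := isGalois_level L
  obtain ⟨Y, ψ, χ, h1, h2, h3, hYa, hYl⟩ := exists_torsor_level w
  obtain ⟨a, hP, hp⟩ := exists_torsor_structure w ψ χ h1 h2 h3
  let p₀ : SGA7.Pts L Y := lift (1 : SGA7.Pts L G) (𝟙 _) ≫ χ
  refine ⟨Y, hYl, a, hP, lv L ≫ p₀, hYa, ⟨_, singleton_pt_mem (k := k) L, ?_⟩, fun σ => ?_⟩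
  · rintro _ _ ⟨⟩
    exact ⟨p₀.left, Over.w p₀⟩
  · refine (ptCoc_unique hP ?_).symm
    rw [hw σ, GalTw.pts_smul_def, ← lv_specAut_assoc, ← comp_act_lift, hp]

end Groth.Agent.PtCount44
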