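import Groth.Agent.PtCount44.Fix
import Groth.Agent.PtCount44.RealiseLC
import Groth.Agent.AlgSt88.QuotStackFib
import Groth.Agent.AlgSt88.QuotTorsor
import Groth.Agent.AGF80.Torsor
import Groth.Agent.Fib44.Basic
import Groth.Prelude.Def_AlgSt5
import Mathlib.AlgebraicGeometry.Sites.Proetale

/-!
The objects and morphisms of the fibre of a quotient category over a finite field, through cocycles.
-/

set_option autoImplicit false
set_option linter.style.haveILetI false
set_option backward.isDefEq.respectTransparency false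
set_option backward.isDefEq.respectTransparency.types false
universe u

open CategoryTheory CategoryTheory.Limits MonoidalCategory CartesianMonoidalCategory AlgebraicGeometry
open Groth.Agent.AlgSt88
open scoped MonObj GrpObj

namespace Groth.Agent.PtCount44

variable {k : Type u} [Field k]

theorem pt_self_hom : (SGA7.pt (K := k) k).hom = 𝟙 _ := by
  show Spec.map (CommRingCat.ofHom (algebraMap k k)) = _
  rw [Algebra.algebraMap_self]
  exact Spec.map_id _

/-- The spectrum of the base field is terminal. -/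
noncomputable def isTerminalPt : IsTerminal (SGA7.pt (K := k) k) :=
  IsTerminal.ofUniqueHom (fun Y => Over.homMk Y.hom (by rw [pt_self_hom, Category.comp_id]))
    fun Y m => by
      ext1
      have h := Over.w m
      rw [pt_self_hom, Category.comp_id] at h
      exact h

variable {G X : Over (Spec (CommRingCat.of k))} [GrpObj G] {aX : AlgGrp.Action G X}
  {A B : AlgSt.QuotObj Scheme.etalePrecoverage G aX}

/-- The base of an object over the field is terminal. -/
noncomputable def isTerminalBase (hA : A.base = SGA7.pt (K := k) k) : IsTerminal A.base :=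
  isTerminalPt.ofIso (eqToIso hA.symm)

theorem pseudo (hA : A.base = SGA7.pt (K := k) k) : NonAbH1.IsPseudoTorsorSch A.act := by
  let hterm := isTerminalBase hA
  have hP : IsPullback (fst A.P A.P) (snd A.P A.P) A.π A.π :=
    (AlgSt.isPullback_fst_snd A.P A.P).of_iso (Iso.refl _) (Iso.refl _) (Iso.refl _)
      (isTerminalTensorUnit.uniqueUpToIso hterm) (by simp) (by simp) (hterm.hom_ext _ _) (hterm.hom_ext _ _)
  have key : lift A.act.act (snd G A.P) = (A.cart.isoIsPullback _ _ hP).hom := by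
    apply CartesianMonoidalCategory.hom_ext
    · rw [lift_fst, IsPullback.isoIsPullback_hom_fst]
    · rw [lift_snd, IsPullback.isoIsPullback_hom_snd]
  show IsIso _
  rw [key]
  infer_instance

theorem loc_fpqc (A : AlgSt.QuotObj Scheme.etalePrecoverage G aX) :
    NonAbH1.IsLocallyTrivialFor Scheme.fpqcPrecoverage (Over.mk A.π.left : Over A.base.left) := by
  obtain ⟨R, hR, hsec⟩ := A.loc
  exact ⟨R, (Scheme.etalePrecoverage_le_proetalePrecoverage.trans Scheme.proetalePrecoverage_le_fpqcPrecoverage) _ hR, hsec⟩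

theorem lft (hA : A.base = SGA7.pt (K := k) k) [LocallyOfFiniteType G.hom] : LocallyOfFiniteType A.P.hom := by
  have h1 : LocallyOfFiniteType A.π.left := by
    refine of_selfPullback _ @LocallyOfFiniteType ?_ (loc_fpqc A)
    have hc : IsPullback A.act.act.left (snd G A.P).left A.π.left A.π.left := A.cart.map (Over.forget _)
    have h0 : LocallyOfFiniteType (snd G A.P).left :=
      MorphismProperty.pullback_snd (P := @LocallyOfFiniteType) _ _ inferInstance
    rw [← hc.isoPullback_hom_snd] at h0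
    exact (MorphismProperty.cancel_left_of_respectsIso @LocallyOfFiniteType _ _).1 h0
  haveI : LocallyOfFiniteType A.base.hom := by
    rw [hA, pt_self_hom]
    infer_instance
  rw [← Over.w A.π]
  infer_instance

variable {K : Type u} [Field K] [Algebra k K]

theorem exists_point [IsAlgClosure k K] (hA : A.base = SGA7.pt (K := k) k) [LocallyOfFiniteType G.hom] :
    Nonempty (SGA7.Pts K A.P) := by
  haveI := lft hA
  haveI : Surjective A.π.left := Sga84.surjective_of_isLocallyTrivialFor (loc_fpqc A)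
  haveI : Nonempty ↥A.P.left := by
    haveI : Nonempty ↥A.base.left := by
      rw [hA]
      exact ⟨IsLocalRing.closedPoint k⟩
    obtain ⟨y⟩ := ‹Nonempty ↥A.base.left›
    obtain ⟨x, -⟩ := A.π.left.surjective y
    exact ⟨x⟩
  obtain ⟨q⟩ := AGF80.exists_geometric_point (k := k) A.P
  let e : AlgebraicClosure k ≃ₐ[k] K := IsAlgClosure.equiv k (AlgebraicClosure k) K
  refine ⟨Over.homMk (Spec.map (CommRingCat.ofHom e.toAlgHom.toRingHom) ≫ q.left) ?_⟩
  have hq : q.left ≫ A.P.hom = Spec.map (CommRingCat.ofHom (algebraMap k (AlgebraicClosure k))) := Over.w q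
  rw [Category.assoc, hq, ← Spec.map_comp, ← CommRingCat.ofHom_comp]
  show Spec.map _ = Spec.map _
  congr 2
  exact e.toAlgHom.comp_algebraMap

theorem IsEqv.comp {P Q : Over (Spec (CommRingCat.of k))} {a : AlgGrp.Action G P} {b : AlgGrp.Action G Q}
    {f : P ⟶ Q} (hf : IsEqv a b f) {h : Q ⟶ X} (hh : IsEqv b aX h) : IsEqv a aX (f ≫ h) := by
  show _ = _
  rw [reassoc_of% hf, hh, MonoidalCategory.whiskerLeft_comp, Category.assoc]

/-- The translations carrying one twisted datum to another. -/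
abbrev HomSet (aX : AlgGrp.Action G X) (z z' : (K ≃ₐ[k] K) → SGA7.Pts K G) (x x' : SGA7.Pts K X) : Type u :=
  {g : SGA7.Pts K G // (∀ σ : K ≃ₐ[k] K, z σ * σ • g * (z' σ)⁻¹ = g) ∧ lift g x' ≫ aX.act = x}

variable [Finite k] [IsAlgClosure k K] [LocallyOfFiniteType G.hom] [LocallyOfFiniteType X.hom]

/-- Morphisms over the field are translations. -/
theorem nonempty_hom_equiv (A B : StkCnt.pts (AlgSt.QuotSt Scheme.etalePrecoverage G aX) k)
    (pA : SGA7.Pts K A.1.P) (pB : SGA7.Pts K B.1.P) :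
    Nonempty ((A ⟶ B) ≃ HomSet aX (ptCoc (pseudo A.2) pA) (ptCoc (pseudo B.2) pB) (pA ≫ A.1.φ) (pB ≫ B.1.φ)) := by
  have hAP := pseudo (A := A.1) A.2
  have hBP := pseudo (A := B.1) B.2
  haveI := lft (A := A.1) A.2
  haveI := lft (A := B.1) B.2
  have hbase : ∀ (f g : A.1.base ⟶ B.1.base), f = g := fun f g => (isTerminalBase (A := B.1) B.2).hom_ext f g
  have htr : ∀ m : A ⟶ B,
      (∀ σ : K ≃ₐ[k] K, ptCoc hAP pA σ * σ • dv hBP (pA ≫ m.1.top) pB * (ptCoc hBP pB σ)⁻¹ = dv hBP (pA ≫ m.1.top) pB) ∧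
      lift (dv hBP (pA ≫ m.1.top) pB) (pB ≫ B.1.φ) ≫ aX.act = pA ≫ A.1.φ := fun m => by
    have hm : IsEqv A.1.act B.1.act m.1.top := m.1.eqv
    have hφ : IsEqv B.1.act aX B.1.φ := B.1.eqv
    refine ⟨fun σ => dv_unique hBP ?_, ?_⟩
    · rw [mul_assoc, act_lift_mul]
      have h1 : lift (σ • dv hBP (pA ≫ m.1.top) pB * (ptCoc hBP pB σ)⁻¹) pB ≫ B.1.act.act = σ • (pA ≫ m.1.top) := by
        conv_lhs => arg 1; arg 2; rw [← ptCoc_spec hBP pB σ]
        rw [← act_lift_mul, inv_mul_cancel_right, ← smul_act, dv_spec]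
      have h2 : σ • (pA ≫ m.1.top) = (σ • pA) ≫ m.1.top := (Category.assoc (SGA7.specAut σ) pA m.1.top).symm
      rw [h1, h2, ← hm.apply, ptCoc_spec]
    · rw [← hφ.apply, dv_spec, Category.assoc, m.1.wφ]
  refine ⟨Equiv.ofBijective (fun m => ⟨_, htr m⟩) ⟨fun m m' h => ?_, fun g => ?_⟩⟩
  · have h1 : pA ≫ m.1.top = pA ≫ m'.1.top := by
      have h' : dv hBP (pA ≫ m.1.top) pB = dv hBP (pA ≫ m'.1.top) pB := congrArg Subtype.val h
      rw [← dv_spec hBP (pA ≫ m.1.top) pB, h', dv_spec]
    refine Functor.Fiber.hom_ext (AlgSt.QuotObj.hom_ext (hbase _ _) ?_)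
    exact (existsUnique_eqv hAP pA (pA ≫ m.1.top) fun σ => by
      have hm : IsEqv A.1.act B.1.act m.1.top := m.1.eqv
      rw [GalTw.pts_smul_def, ← Category.assoc, ← hm.apply, ← GalTw.pts_smul_def, ptCoc_spec]).unique
      ⟨m.1.eqv, rfl⟩ ⟨m'.1.eqv, h1.symm⟩
  · obtain ⟨g, hg, hgx⟩ := g
    obtain ⟨f, ⟨hf, hpf⟩, -⟩ := existsUnique_eqv (aX := B.1.act) hAP pA (lift g pB ≫ B.1.act.act) fun σ => by
      rw [smul_act, ← act_lift_mul]
      conv_rhs => rw [← ptCoc_spec hBP pB σ, ← act_lift_mul]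
      congr 2
      conv_rhs => rw [← hg σ, inv_mul_cancel_right]
    obtain ⟨f', ⟨hf', hpf'⟩, -⟩ := existsUnique_eqv (aX := A.1.act) hBP pB (lift g⁻¹ pA ≫ A.1.act.act) fun σ => by
      rw [smul_act, ← act_lift_mul]
      conv_rhs => rw [← ptCoc_spec hAP pA σ, ← act_lift_mul]
      congr 2
      have h := congrArg (fun t => t⁻¹) (hg σ)
      simp only [mul_inv_rev, inv_inv] at h
      rw [smul_inv']
      conv_rhs => rw [← h]
      simp [mul_assoc]
    have e1 : f ≫ f' = 𝟙 _ := by
      refine (existsUnique_eqv (aX := A.1.act) hAP pA pA fun σ => ptCoc_spec hAP pA σ).unique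
        ⟨IsEqv.comp hf hf', ?_⟩ ⟨by simp [IsEqv], Category.comp_id _⟩
      rw [← Category.assoc, hpf, hf'.apply, hpf', ← act_lift_mul, mul_inv_cancel, act_lift_one]
    have e2 : f' ≫ f = 𝟙 _ := by
      refine (existsUnique_eqv (aX := B.1.act) hBP pB pB fun σ => ptCoc_spec hBP pB σ).unique
        ⟨IsEqv.comp hf' hf, ?_⟩ ⟨by simp [IsEqv], Category.comp_id _⟩
      rw [← Category.assoc, hpf', hf.apply, hpf, ← act_lift_mul, inv_mul_cancel, act_lift_one]
    haveI : IsIso f := ⟨f', e1, e2⟩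
    have hφ : f ≫ B.1.φ = A.1.φ := by
      refine (existsUnique_eqv hAP pA (pA ≫ A.1.φ) fun σ => by
        have hA : IsEqv A.1.act aX A.1.φ := A.1.eqv
        rw [GalTw.pts_smul_def, ← Category.assoc, ← hA.apply, ← GalTw.pts_smul_def, ptCoc_spec]).unique
        ⟨IsEqv.comp hf B.1.eqv, ?_⟩ ⟨A.1.eqv, rfl⟩
      have hB : IsEqv B.1.act aX B.1.φ := B.1.eqv
      rw [← Category.assoc, hpf, hB.apply, hgx]
    let m : A.1 ⟶ B.1 :=
      { base := eqToHom (A.2.trans B.2.symm)
        top := f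
        eqv := hf
        cart := IsPullback.of_horiz_isIso ⟨(isTerminalBase (A := B.1) B.2).hom_ext _ _⟩
        wφ := hφ }
    haveI : (AlgSt.QuotSt Scheme.etalePrecoverage G aX).p.IsHomLift (𝟙 (SGA7.pt (K := k) k)) m :=
      IsHomLift.of_fac' _ _ _ A.2 B.2 ((isTerminalBase (A := B.1) B.2).hom_ext _ _)
    refine ⟨Functor.Fiber.homMk (AlgSt.QuotSt Scheme.etalePrecoverage G aX).p (SGA7.pt (K := k) k) m, Subtype.ext ?_⟩
    show dv hBP (pA ≫ f) pB = g
    exact (dv_unique hBP hpf.symm).symm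

/-- Every locally constant cocycle and fixed point come from an object. -/
theorem exists_obj [IsAffine G.left] (z : GpH1.OneCocycleLC (K ≃ₐ[k] K) (SGA7.Pts K G)) (x : FixPt aX z) :
    ∃ (A : StkCnt.pts (AlgSt.QuotSt Scheme.etalePrecoverage G aX) k) (p : SGA7.Pts K A.1.P),
      (∀ σ, ptCoc (pseudo A.2) p σ = z.1 σ) ∧ p ≫ A.1.φ = x.1 := by
  obtain ⟨P, hlft, a, hP, p, -, hloc, hz⟩ := exists_torsor z
  obtain ⟨φ, ⟨hφ, hpφ⟩, -⟩ := existsUnique_eqv hP p x.1 fun σ => by
    rw [hz σ]
    exact x.2 σ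
  let π : P ⟶ SGA7.pt (K := k) k := isTerminalPt.from P
  have hπ : π.left = P.hom := by
    have h := Over.w π
    rwa [pt_self_hom, Category.comp_id] at h
  haveI : IsIso (lift a.act (snd G P)) := hP
  refine ⟨⟨{ base := SGA7.pt (K := k) k, P := P, act := a, π := π
             cart := (AlgSt.isPullback_fst_snd P P).of_iso (asIso (lift a.act (snd G P))).symm (Iso.refl _) (Iso.refl _)
               (isTerminalTensorUnit.uniqueUpToIso isTerminalPt) ?_ ?_
               (isTerminalPt.hom_ext _ _) (isTerminalPt.hom_ext _ _)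
             loc := ?_, φ := φ, eqv := hφ }, rfl⟩, p, hz, hpφ⟩
  · rw [Iso.refl_hom, Category.comp_id, Iso.symm_hom, asIso_inv, IsIso.eq_inv_comp, lift_fst]
  · rw [Iso.refl_hom, Category.comp_id, Iso.symm_hom, asIso_inv, IsIso.eq_inv_comp, lift_snd]
  · show NonAbH1.IsLocallyTrivialFor Scheme.etalePrecoverage (Over.mk π.left : Over (Spec (CommRingCat.of k)))
    rw [hπ]
    exact hloc

end Groth.Agent.PtCount44
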