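import Groth.Agent.PtCount44.BaseChange
import Groth.Agent.PtCount44.Objects
import Groth.Agent.PtCount44.CountEq

/-!
Points over an extension field of a quotient category are points of the base-changed quotient category.
-/

set_option autoImplicit false
set_option linter.style.haveILetI false
set_option linter.unusedSimpArgs false
set_option backward.isDefEq.respectTransparency false
set_option backward.isDefEq.respectTransparency.types false
universe u

open CategoryTheory CategoryTheory.Limits MonoidalCategory CartesianMonoidalCategory AlgebraicGeometry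
open Groth.Agent.AlgSt88
open scoped MonObj GrpObj

namespace Groth.Agent.PtCount44

variable {k : Type u} [Field k] {k' : Type u} [Field k'] [Algebra k k']
variable {G X : Over (Spec (CommRingCat.of k))} [GrpObj G] {aX : AlgGrp.Action G X}

local notation "bf" => Spec.map (CommRingCat.ofHom (algebraMap k k'))
local notation "he" => Adjunction.homEquiv (Over.mapPullbackAdj bf)
local notation "PtsObj" => StkCnt.pts (AlgSt.QuotSt Scheme.etalePrecoverage G aX) k'
local notation "BcObj" => StkCnt.pts (AlgSt.QuotSt Scheme.etalePrecoverage (Red.bc bf G) (aX.bc bf)) k'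

theorem exists_map {T T' : Over (Spec (CommRingCat.of k'))} (x : (Over.map bf).obj T ⟶ (Over.map bf).obj T')
    (h : x ≫ canTo bf T' = canTo bf T) : ∃ t : T ⟶ T', (Over.map bf).map t = x :=
  ⟨Over.homMk x.left (congrArg (fun t => t.left) h), Over.OverMorphism.ext rfl⟩

theorem baseEq (A : PtsObj) : A.1.base = (Over.mk bf : Over (Spec (CommRingCat.of k))) := A.2

theorem pts_base_comp {A B : PtsObj} (m : A ⟶ B) :
    m.1.base ≫ eqToHom (baseEq B) = eqToHom (baseEq A) := by
  have : (AlgSt.QuotSt Scheme.etalePrecoverage G aX).p.IsHomLift (𝟙 _) m.1 := m.2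
  have h := IsHomLift.fac' (AlgSt.QuotSt Scheme.etalePrecoverage G aX).p (𝟙 (SGA7.pt (K := k) k')) m.1
  replace h : m.1.base = _ := h
  rw [h]
  simp

theorem pts_base_eq {A B : PtsObj} (m m' : A ⟶ B) : m.1.base = m'.1.base := by
  rw [← cancel_mono (eqToHom (baseEq B)), pts_base_comp, pts_base_comp]

theorem isIso_pts_hom {A B : PtsObj} (m : A ⟶ B) : IsIso m := by
  have : IsGroupoid (Functor.Fiber (AlgSt.QuotSt Scheme.etalePrecoverage G aX).p (SGA7.pt (K := k) k')) :=
    Fib44.isGroupoid_fiber _ (isFibGrpd_quotSt (K := Scheme.etalePrecoverage) aX) _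
  exact IsGroupoid.all_isIso m

/-- The object over the larger field has the same underlying torsor. -/
structure IsModelOf (A : PtsObj) (A' : BcObj) where
  e : (Over.map bf).obj A'.1.P ≅ A.1.P
  π : e.hom ≫ A.1.π ≫ eqToHom (baseEq A) = canTo bf A'.1.P
  act : ∀ {T : Over (Spec (CommRingCat.of k'))} (g : T ⟶ Red.bc bf G) (x : T ⟶ A'.1.P),
    (Over.map bf).map (lift g x ≫ A'.1.act.act) ≫ e.hom =
      lift ((he T G).symm g) ((Over.map bf).map x ≫ e.hom) ≫ A.1.act.act
  φ : he A'.1.P X (e.hom ≫ A.1.φ) = A'.1.φ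

theorem exists_hom_bc {A B : PtsObj} {A' B' : BcObj} (mA : IsModelOf A A') (mB : IsModelOf B B') (m : A ⟶ B) :
    ∃ u : A' ⟶ B', (Over.map bf).map u.1.top ≫ mB.e.hom = mA.e.hom ≫ m.1.top := by
  obtain ⟨t, ht⟩ := exists_map (mA.e.hom ≫ m.1.top ≫ mB.e.inv) (by
    rw [← mB.π, Category.assoc, Category.assoc, Iso.inv_hom_id_assoc, reassoc_of% m.1.cart.w, pts_base_comp, mA.π])
  have htop : (Over.map bf).map t ≫ mB.e.hom = mA.e.hom ≫ m.1.top := by
    rw [ht, Category.assoc, Category.assoc, Iso.inv_hom_id, Category.comp_id]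
  haveI : IsIso m.1.top := by
    haveI := isIso_pts_hom m
    exact ⟨(inv m).1.top, congrArg (fun t => t.1.top) (IsIso.hom_inv_id m),
      congrArg (fun t => t.1.top) (IsIso.inv_hom_id m)⟩
  haveI : IsIso t := by
    haveI : IsIso ((Over.map bf).map t) := by rw [ht]; infer_instance
    haveI : IsIso t.left := inferInstanceAs (IsIso ((Over.forget _).map ((Over.map bf).map t)))
    haveI : IsIso ((Over.forget _).map t) := ‹IsIso t.left›
    exact isIso_of_reflects_iso t (Over.forget _)
  have heqv : A'.1.act.act ≫ t = (Red.bc bf G ◁ t) ≫ B'.1.act.act := by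
    apply map_inj bf
    rw [← cancel_mono mB.e.hom, Functor.map_comp, Category.assoc, htop,
      show Red.bc bf G ◁ t = lift (fst _ _) (snd _ _ ≫ t) by apply CartesianMonoidalCategory.hom_ext <;> simp,
      mB.act, Functor.map_comp, Category.assoc, htop]
    conv_lhs => rw [← Category.id_comp A'.1.act.act, ← lift_fst_snd, ← Category.assoc, mA.act]
    rw [Category.assoc, m.1.eqv, lift_whiskerLeft_assoc, Category.assoc]
  let u : A'.1 ⟶ B'.1 :=
    { base := eqToHom (A'.2.trans B'.2.symm)
      top := t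
      eqv := heqv
      cart := IsPullback.of_horiz_isIso ⟨(isTerminalBase (A := B'.1) B'.2).hom_ext _ _⟩
      wφ := by
        rw [← mB.φ, ← mA.φ, ← Adjunction.homEquiv_naturality_left, reassoc_of% htop, m.1.wφ] }
  haveI : (AlgSt.QuotSt Scheme.etalePrecoverage (Red.bc bf G) (aX.bc bf)).p.IsHomLift
      (𝟙 (SGA7.pt (K := k') k')) u :=
    IsHomLift.of_fac' _ _ _ A'.2 B'.2 ((isTerminalBase (A := B'.1) B'.2).hom_ext _ _)
  exact ⟨Functor.Fiber.homMk (AlgSt.QuotSt Scheme.etalePrecoverage (Red.bc bf G) (aX.bc bf)).p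
    (SGA7.pt (K := k') k') u, htop⟩

theorem exists_hom_of_bc {A B : PtsObj} {A' B' : BcObj} (mA : IsModelOf A A') (mB : IsModelOf B B') (u : A' ⟶ B') :
    ∃ m : A ⟶ B, (Over.map bf).map u.1.top ≫ mB.e.hom = mA.e.hom ≫ m.1.top := by
  haveI : IsIso u.1.top := by
    haveI := isIso_pts_hom u
    exact ⟨(inv u).1.top, congrArg (fun t => t.1.top) (IsIso.hom_inv_id u),
      congrArg (fun t => t.1.top) (IsIso.inv_hom_id u)⟩
  let top : A.1.P ⟶ B.1.P := mA.e.inv ≫ (Over.map bf).map u.1.top ≫ mB.e.hom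
  haveI : IsIso top := inferInstance
  have hπ : top ≫ B.1.π ≫ eqToHom (baseEq B) = A.1.π ≫ eqToHom (baseEq A) := by
    simp only [top, Category.assoc]
    rw [mB.π, map_canTo, Iso.inv_comp_eq, mA.π]
  have heqv : A.1.act.act ≫ top = (G ◁ top) ≫ B.1.act.act := by
    obtain ⟨T, e₀, he₀⟩ := exists_model bf (snd G A.1.P ≫ A.1.π ≫ eqToHom (baseEq A))
    obtain ⟨x, hx⟩ := exists_map (T := T) (T' := A'.1.P) (e₀.hom ≫ snd G A.1.P ≫ mA.e.inv) (by
      rw [← mA.π, ← he₀]; simp only [Category.assoc, Iso.inv_hom_id_assoc])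
    rw [← cancel_epi e₀.hom]
    have h := mA.act (he T G (e₀.hom ≫ fst G A.1.P)) x
    rw [Equiv.symm_apply_apply, hx] at h
    simp only [Category.assoc, Iso.inv_hom_id, Category.comp_id] at h
    rw [← comp_lift_assoc, lift_fst_snd, Category.id_comp] at h
    rw [← Category.assoc, ← h]
    simp only [top, Category.assoc, Iso.hom_inv_id_assoc]
    have hu : A'.1.act.act ≫ u.1.top = (Red.bc bf G ◁ u.1.top) ≫ B'.1.act.act := u.1.eqv
    rw [← Functor.map_comp_assoc, Category.assoc, hu, lift_whiskerLeft_assoc, mB.act, Equiv.symm_apply_apply]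
    simp only [Functor.map_comp, hx, Category.assoc]
    rw [show G ◁ (mA.e.inv ≫ (Over.map bf).map u.1.top ≫ mB.e.hom) =
      lift (fst _ _) (snd _ _ ≫ mA.e.inv ≫ (Over.map bf).map u.1.top ≫ mB.e.hom) by
        apply CartesianMonoidalCategory.hom_ext <;> simp, comp_lift_assoc]
  let m : A.1 ⟶ B.1 :=
    { base := eqToHom ((baseEq A).trans (baseEq B).symm)
      top := top
      eqv := heqv
      cart := IsPullback.of_horiz_isIso ⟨by
        rw [← cancel_mono (eqToHom (baseEq B)), Category.assoc, hπ, Category.assoc, eqToHom_trans]⟩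
      wφ := by
        have h : u.1.top ≫ B'.1.φ = A'.1.φ := u.1.wφ
        rw [← mB.φ, ← mA.φ, ← Adjunction.homEquiv_naturality_left, Equiv.apply_eq_iff_eq] at h
        simp only [top, Category.assoc]
        rw [h, Iso.inv_hom_id_assoc] }
  haveI : (AlgSt.QuotSt Scheme.etalePrecoverage G aX).p.IsHomLift (𝟙 (SGA7.pt (K := k) k')) m :=
    IsHomLift.of_fac' _ _ _ A.2 B.2 (by
      show eqToHom ((baseEq A).trans (baseEq B).symm) = _
      simp)
  exact ⟨Functor.Fiber.homMk (AlgSt.QuotSt Scheme.etalePrecoverage G aX).p (SGA7.pt (K := k) k') m,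
    (Iso.hom_inv_id_assoc mA.e _).symm⟩

theorem nonempty_hom_equiv_bc {A B : PtsObj} {A' B' : BcObj} (mA : IsModelOf A A') (mB : IsModelOf B B') :
    Nonempty ((A ⟶ B) ≃ (A' ⟶ B')) := by
  choose F hF using exists_hom_bc mA mB
  refine ⟨Equiv.ofBijective F ⟨fun m m' h => ?_, fun u => ?_⟩⟩
  · refine Functor.Fiber.hom_ext (AlgSt.QuotObj.hom_ext (pts_base_eq m m') ?_)
    show m.1.top = m'.1.top
    rw [← cancel_epi mA.e.hom, ← hF, ← hF, h]
  · obtain ⟨m, hm⟩ := exists_hom_of_bc mA mB u
    refine ⟨m, Functor.Fiber.hom_ext (AlgSt.QuotObj.hom_ext ((isTerminalBase (A := B'.1) B'.2).hom_ext _ _) ?_)⟩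
    show (F m).1.top = u.1.top
    apply map_inj bf
    rw [← cancel_mono mB.e.hom, hF, hm]

theorem exists_modelOf (A : PtsObj) : ∃ A' : BcObj, Nonempty (IsModelOf A A') := by
  let π₀ : A.1.P ⟶ Over.mk bf := A.1.π ≫ eqToHom (baseEq A)
  have hc : IsPullback A.1.act.act (snd G A.1.P) π₀ π₀ :=
    A.1.cart.of_iso (Iso.refl _) (Iso.refl _) (Iso.refl _) (eqToIso (baseEq A))
      (by simp) (by simp) (by simp [π₀]) (by simp [π₀])
  obtain ⟨a', key⟩ := exists_restrictAction bf π₀ A.1.act hc.w
  have hP := pseudo_restrict bf π₀ A.1.act hc a' key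
  haveI : IsIso (lift a'.act (snd (Red.bc bf G) (restrictBase bf π₀))) := hP
  let π' : restrictBase bf π₀ ⟶ SGA7.pt (K := k') k' := isTerminalPt.from _
  have hπ' : π'.left = π₀.left := by
    have h := Over.w π'
    rw [pt_self_hom, Category.comp_id] at h
    exact h
  refine ⟨⟨{ base := SGA7.pt (K := k') k', P := restrictBase bf π₀, act := a', π := π'
             cart := (AlgSt.isPullback_fst_snd _ _).of_iso
               (asIso (lift a'.act (snd (Red.bc bf G) (restrictBase bf π₀)))).symm (Iso.refl _) (Iso.refl _)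
               (isTerminalTensorUnit.uniqueUpToIso isTerminalPt) ?_ ?_
               (isTerminalPt.hom_ext _ _) (isTerminalPt.hom_ext _ _)
             loc := ?_, φ := he _ X ((baseIso bf π₀).hom ≫ A.1.φ),
             eqv := eqv_restrict bf π₀ A.1.act aX A.1.eqv a' key }, rfl⟩,
    ⟨⟨baseIso bf π₀, ?_, fun g x => key g x, rfl⟩⟩⟩
  · rw [Iso.refl_hom, Category.comp_id, Iso.symm_hom, asIso_inv, IsIso.eq_inv_comp, lift_fst]
  · rw [Iso.refl_hom, Category.comp_id, Iso.symm_hom, asIso_inv, IsIso.eq_inv_comp, lift_snd]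
  · show NonAbH1.IsLocallyTrivialFor Scheme.etalePrecoverage
      (Over.mk π'.left : Over (Spec (CommRingCat.of k')))
    rw [hπ']
    obtain ⟨⟨base, P, act, π, cart, loc, φ, eqv⟩, hA⟩ := A
    obtain rfl : base = (Over.mk bf : Over (Spec (CommRingCat.of k))) := hA
    have h : π₀.left = π.left := congrArg (fun t => t.left) (Category.comp_id π)
    rw [h]
    exact loc
  · exact Over.OverMorphism.ext (Category.id_comp _)

theorem exists_of_model (A' : BcObj) : ∃ A : PtsObj, Nonempty (IsModelOf A A') := by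
  have hP := pseudo (A := A'.1) A'.2
  obtain ⟨a, hπ, key⟩ := exists_extendAction bf A'.1.act
  have hc := isPullback_extend bf A'.1.act a hπ key hP
  refine ⟨⟨{ base := SGA7.pt (K := k) k', P := (Over.map bf).obj A'.1.P, act := a, π := canTo bf A'.1.P
             cart := hc, loc := ?_, φ := (he _ X).symm A'.1.φ, eqv := ?_ }, rfl⟩,
    ⟨⟨Iso.refl _, ?_, fun g x => ?_, ?_⟩⟩⟩
  · show NonAbH1.IsLocallyTrivialFor Scheme.etalePrecoverage (Over.mk A'.1.P.hom : Over (Spec (CommRingCat.of k')))
    obtain ⟨⟨base, P, act, π, cart, loc, φ, eqv⟩, hA⟩ := A'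
    obtain rfl : base = SGA7.pt (K := k') k' := hA
    have h : π.left = P.hom := by
      have h := Over.w π
      rwa [pt_self_hom, Category.comp_id] at h
    rw [← h]
    exact loc
  · obtain ⟨T, e₀, he₀⟩ := exists_model bf (snd G ((Over.map bf).obj A'.1.P) ≫ canTo bf A'.1.P)
    obtain ⟨x, hx⟩ := exists_map (e₀.hom ≫ snd G ((Over.map bf).obj A'.1.P))
      ((Category.assoc _ _ _).trans he₀)
    rw [← cancel_epi e₀.hom]
    have h := key (e₀.hom ≫ fst G _) x
    rw [hx, ← comp_lift_assoc, lift_fst_snd, Category.id_comp] at h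
    rw [← Category.assoc, h, ← Adjunction.homEquiv_naturality_left_symm,
      show G ◁ (he A'.1.P X).symm A'.1.φ = lift (fst _ _) (snd _ _ ≫ (he A'.1.P X).symm A'.1.φ) by
        apply CartesianMonoidalCategory.hom_ext <;> simp,
      comp_lift_assoc, ← Category.assoc e₀.hom (snd _ _), ← hx, ← Adjunction.homEquiv_naturality_left_symm,
      Equiv.symm_apply_eq, ← AlgGrp.Action.lift_homEquiv_bc_act, Equiv.apply_symm_apply, Category.assoc]
    have hφ : A'.1.act.act ≫ A'.1.φ = (Red.bc bf G ◁ A'.1.φ) ≫ (aX.bc bf).act := A'.1.eqv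
    rw [hφ, lift_whiskerLeft_assoc]
  · exact Category.id_comp _ |>.trans (by simp)
  · rw [Iso.refl_hom, Category.comp_id, Category.comp_id, key, Equiv.apply_symm_apply]
  · rw [Iso.refl_hom, Category.id_comp, Equiv.apply_symm_apply]

/-- The point count over an extension is the count of the base change. -/
theorem count_bc (h : StkCnt.IsEssFinite PtsObj) :
    ∃ h' : StkCnt.IsEssFinite BcObj, StkCnt.count BcObj h' = StkCnt.count PtsObj h := by
  choose o ho using exists_modelOf (k' := k') (aX := aX)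
  refine count_eq_of_homEquiv (fun m => isIso_pts_hom m) (fun m => isIso_pts_hom m) o
    (fun A B => nonempty_hom_equiv_bc (ho A).some (ho B).some) (fun A' => ?_) h
  obtain ⟨A, ⟨mA⟩⟩ := exists_of_model A'
  obtain ⟨e⟩ := nonempty_hom_equiv_bc (ho A).some mA
  haveI := isIso_pts_hom (e (𝟙 A))
  exact ⟨A, ⟨asIso (e (𝟙 A))⟩⟩

end Groth.Agent.PtCount44
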