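import Groth.Agent.PtCount44.Objects
import Groth.Agent.StMass44.Mass
import Groth.Prelude.Def_StkCnt

/-!
The point count of a quotient category over a finite field.
-/

set_option autoImplicit false
set_option linter.style.haveILetI false
set_option backward.isDefEq.respectTransparency false
set_option backward.isDefEq.respectTransparency.types false
universe u

open CategoryTheory CategoryTheory.Limits MonoidalCategory CartesianMonoidalCategory AlgebraicGeometry
open Groth.Agent.AlgSt88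
open scoped MonObj GrpObj

namespace Groth.Agent.PtCount44

variable {k : Type u} [Field k] [Finite k] {K : Type u} [Field K] [Algebra k K] [IsAlgClosure k K]
variable {G X : Over (Spec (CommRingCat.of k))} [GrpObj G] [LocallyOfFiniteType G.hom] [LocallyOfFiniteType X.hom]
  {aX : AlgGrp.Action G X}

local notation "Obj" => StkCnt.pts (AlgSt.QuotSt Scheme.etalePrecoverage G aX) k

theorem isIso_hom {A B : Obj} (m : A ⟶ B) : IsIso m := by
  have : IsGroupoid (Functor.Fiber (AlgSt.QuotSt Scheme.etalePrecoverage G aX).p (SGA7.pt (K := k) k)) :=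
    Fib44.isGroupoid_fiber _ (isFibGrpd_quotSt (K := Scheme.etalePrecoverage) aX) _
  exact IsGroupoid.all_isIso m

theorem card_aut_eq (A : Obj) : Nat.card (Aut A) = Nat.card (A ⟶ A) :=
  Nat.card_congr (Equiv.ofBijective (fun a : Aut A => a.hom)
    ⟨fun a b h => Iso.ext h, fun m => haveI := isIso_hom m; ⟨asIso m, rfl⟩⟩)

theorem cohomologous_of_hom {A B : Obj} (m : A ⟶ B) (pA : SGA7.Pts K A.1.P) (pB : SGA7.Pts K B.1.P) :
    GpH1.Cohomologous (fun σ => ptCoc (pseudo A.2) pA σ) (fun σ => ptCoc (pseudo B.2) pB σ) := by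
  obtain ⟨e⟩ := nonempty_hom_equiv A B pA pB
  obtain ⟨g, hg, -⟩ := e m
  refine ⟨g⁻¹, fun σ => ?_⟩
  have h : ptCoc (pseudo A.2) pA σ * σ • g * (ptCoc (pseudo B.2) pB σ)⁻¹ = g := hg σ
  rw [mul_inv_eq_iff_eq_mul] at h
  show ptCoc (pseudo A.2) pA σ = g⁻¹⁻¹ * ptCoc (pseudo B.2) pB σ * σ • g⁻¹
  rw [inv_inv, smul_inv', ← h, mul_inv_cancel_right]

/-- The class of an object. -/
noncomputable def objClass (A : Obj) : GpH1.H1lc (K ≃ₐ[k] K) (SGA7.Pts K G) :=
  haveI := lft (A := A.1) A.2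
  (ptCocLC (pseudo A.2) (Classical.choice (exists_point (K := K) A.2))).cl

theorem objClass_eq (A : Obj) (p : SGA7.Pts K A.1.P) (z : GpH1.OneCocycleLC (K ≃ₐ[k] K) (SGA7.Pts K G))
    (hz : ∀ σ, ptCoc (pseudo A.2) p σ = z.1 σ) : objClass (K := K) A = z.cl := by
  haveI := lft (A := A.1) A.2
  refine (GpH1.OneCocycleLC.cl_eq_cl_iff _ _).2 ?_
  obtain ⟨d, hd⟩ := cohomologous_of_hom (𝟙 A) (Classical.choice (exists_point (K := K) A.2)) p
  exact ⟨d, fun σ => by rw [← hz σ]; exact hd σ⟩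

theorem objClass_eq_of_iso {A B : Obj} (e : A ≅ B) : objClass (K := K) A = objClass (K := K) B := by
  haveI := lft (A := A.1) A.2
  haveI := lft (A := B.1) B.2
  exact (GpH1.OneCocycleLC.cl_eq_cl_iff _ _).2 (cohomologous_of_hom e.hom _ _)

/-- A point with prescribed cocycle in the class. -/
theorem exists_point_of_class (A : Obj) (z : GpH1.OneCocycleLC (K ≃ₐ[k] K) (SGA7.Pts K G))
    (h : objClass (K := K) A = z.cl) : ∃ p : SGA7.Pts K A.1.P, ∀ σ, ptCoc (pseudo A.2) p σ = z.1 σ := by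
  haveI := lft (A := A.1) A.2
  obtain ⟨d, hd⟩ := (GpH1.OneCocycleLC.cl_eq_cl_iff _ _).1 h
  refine ⟨lift d (Classical.choice (exists_point (K := K) A.2)) ≫ A.1.act.act, fun σ => ?_⟩
  rw [ptCoc_act]
  refine (congrArg (fun t => d * t * (σ • d)⁻¹) (hd σ)).trans ?_
  simp [mul_assoc]

theorem point_mem_fixPt (A : Obj) (p : SGA7.Pts K A.1.P) (z : GpH1.OneCocycleLC (K ≃ₐ[k] K) (SGA7.Pts K G))
    (hz : ∀ σ, ptCoc (pseudo A.2) p σ = z.1 σ) (σ : K ≃ₐ[k] K) :
    lift (z.1 σ) (σ • (p ≫ A.1.φ : SGA7.Pts K X)) ≫ aX.act = p ≫ A.1.φ := by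
  have hA : IsEqv A.1.act aX A.1.φ := A.1.eqv
  rw [GalTw.pts_smul_def, ← Category.assoc, ← hA.apply, ← GalTw.pts_smul_def, ← hz σ, ptCoc_spec]

/-- The counting formula by twisted fixed points. -/
theorem ptCount_eq_sum [IsAffine G.left] [QuasiCompact X.hom] [QuasiCompact G.hom]
    [Fintype (GpH1.H1lc (K ≃ₐ[k] K) (SGA7.Pts K G))]
    (z : GpH1.H1lc (K ≃ₐ[k] K) (SGA7.Pts K G) → GpH1.OneCocycleLC (K ≃ₐ[k] K) (SGA7.Pts K G))
    (hz : ∀ c, (z c).cl = c)
    (h : StkCnt.IsEssFinite Obj) :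
    StkCnt.count Obj h = ∑ c : GpH1.H1lc (K ≃ₐ[k] K) (SGA7.Pts K G),
      (Nat.card (FixPt aX (z c)) : ℚ) / (Nat.card (fixGrp (z c)) : ℚ) := by
  classical
  haveI := h.finite_isoCl
  haveI : Fintype (StkCnt.IsoCl Obj) := Fintype.ofFinite _
  rw [StkCnt.count_eq_sum h]
  let q : StkCnt.IsoCl Obj → GpH1.H1lc (K ≃ₐ[k] K) (SGA7.Pts K G) :=
    Quotient.lift (fun A : Obj => objClass (K := K) A) (by rintro A B ⟨e⟩; exact objClass_eq_of_iso e)
  rw [← Fintype.sum_fiberwise q]
  refine Finset.sum_congr rfl fun c _ => ?_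
  choose obj pt hpt hφ using fun x : FixPt aX (z c) => exists_obj (z c) x
  let f : FixPt aX (z c) → {t : StkCnt.IsoCl Obj // q t = c} := fun x =>
    ⟨StkCnt.IsoCl.mk (obj x), (objClass_eq (obj x) (pt x) (z c) (hpt x)).trans (hz c)⟩
  letI := fixAction aX (z c)
  haveI := finite_fixPt aX (z c)
  haveI := finite_fixGrp (z c)
  have hhom : ∀ x y, Nonempty ((obj x ⟶ obj y) ≃ {g : fixGrp (z c) // g • y = x}) := fun x y => by
    obtain ⟨e⟩ := nonempty_hom_equiv (obj x) (obj y) (pt x) (pt y)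
    refine ⟨e.trans
      { toFun := fun g => ⟨⟨g.1, fun σ => by have h := g.2.1 σ; rwa [hpt, hpt] at h⟩,
          Subtype.ext (by
            obtain ⟨g, -, h⟩ := g
            rw [hφ, hφ] at h
            exact h)⟩
        invFun := fun g => ⟨g.1.1, fun σ => by rw [hpt, hpt]; exact g.1.2 σ, by
          rw [hφ, hφ]
          exact congrArg Subtype.val g.2⟩
        left_inv := fun g => rfl
        right_inv := fun g => rfl }⟩
  have hsurj : Function.Surjective f := by
    rintro ⟨t, ht⟩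
    induction t using Quotient.inductionOn with | h A => ?_
    obtain ⟨p, hp⟩ := exists_point_of_class A (z c) (ht.trans (hz c).symm)
    let x : FixPt aX (z c) := ⟨p ≫ A.1.φ, point_mem_fixPt A p (z c) hp⟩
    obtain ⟨e⟩ := nonempty_hom_equiv (obj x) A (pt x) p
    let m := e.symm ⟨1, fun σ => by rw [hpt, hp, smul_one, mul_one, mul_inv_cancel], by
      rw [hφ, act_lift_one]⟩
    haveI := isIso_hom m
    exact ⟨x, Subtype.ext (Quotient.sound ⟨asIso m⟩)⟩
  have hrel : ∀ x y, f x = f y ↔ ∃ g : fixGrp (z c), g • y = x := fun x y => by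
    obtain ⟨e⟩ := hhom x y
    constructor
    · intro h
      obtain ⟨i⟩ := Quotient.exact (congrArg Subtype.val h)
      exact ⟨(e i.hom).1, (e i.hom).2⟩
    · rintro ⟨g, hg⟩
      haveI := isIso_hom (e.symm ⟨g, hg⟩)
      exact Subtype.ext (Quotient.sound ⟨asIso (e.symm ⟨g, hg⟩)⟩)
  have key := StMass44.sum_inv_card f hsurj hrel
    (fun t => StkCnt.autCard Obj t.1) fun x => by
      show StkCnt.autCard Obj (StkCnt.IsoCl.mk (obj x)) = _
      rw [StkCnt.autCard_mk, card_aut_eq]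
      exact Nat.card_congr (hhom x x).some
  rw [← key, finsum_eq_sum_of_fintype]

end Groth.Agent.PtCount44
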