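import Groth.Agent.Lang44.Twisted
import Groth.Agent.PtCount44.FinClasses
import Groth.Agent.AGF80.Torsor
import Groth.Prelude.Def_NonAbH2
import Mathlib.AlgebraicGeometry.Sites.Proetale

/-!
Exact sequences of algebraic groups with connected kernel over a finite field.
-/

set_option autoImplicit false
set_option linter.style.haveILetI false
set_option backward.isDefEq.respectTransparency false
set_option backward.isDefEq.respectTransparency.types false
universe u

open CategoryTheory CategoryTheory.Limits MonoidalCategory CartesianMonoidalCategory AlgebraicGeometry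
open scoped MonObj GrpObj

namespace Groth.Agent.PtCount44

variable {k : Type u} [Field k] {A B C : Over (Spec (CommRingCat.of k))} [GrpObj A] [GrpObj B] [GrpObj C]
  {i : A ⟶ B} {π : B ⟶ C} [IsMonHom i] [IsMonHom π]
  (hex : NonAbH1.IsExactSeq Scheme.fppfPrecoverage i π)

include hex

theorem exists_kernel_lift {T : Over (Spec (CommRingCat.of k))} (b : T ⟶ B) (h : b ≫ π = 1) :
    ∃ a : T ⟶ A, a ≫ i = b := by
  obtain ⟨-, -, -, hsq, -⟩ := hex
  let w := hsq.lift (1 : T ⟶ B) b (by rw [h, MonObj.one_comp])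
  refine ⟨w ≫ snd _ _, ?_⟩
  have h1 : w ≫ fst B A = 1 := hsq.lift_fst _ _ _
  have h2 : w ≫ (B ◁ i) ≫ μ[B] = b := hsq.lift_snd _ _ _
  rw [show w = lift (1 : T ⟶ B) (w ≫ snd B A) by rw [← h1, ← comp_lift, lift_fst_snd, Category.comp_id],
    lift_whiskerLeft_assoc, ← Hom.mul_def, one_mul] at h2
  exact h2

theorem kernel_ext {T : Over (Spec (CommRingCat.of k))} {a a' : T ⟶ A} (h : a ≫ i = a' ≫ i) : a = a' := by
  obtain ⟨-, -, -, hsq, -⟩ := hex
  have h1 : lift (1 : T ⟶ B) a = lift (1 : T ⟶ B) a' := hsq.hom_ext (by simp) (by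
    rw [lift_whiskerLeft_assoc, lift_whiskerLeft_assoc, h])
  simpa using congrArg (fun t => t ≫ snd B A) h1

theorem comp_eq_one : i ≫ π = 1 := hex.2.2.1

theorem exists_pts_lift {K : Type u} [Field K] [Algebra k K] [IsAlgClosed K] [LocallyOfFiniteType B.hom]
    (c : SGA7.Pts K C) : ∃ b : SGA7.Pts K B, b ≫ π = c := by
  obtain ⟨-, -, -, -, R, hR, hs⟩ := hex
  haveI : Surjective π.left := Sga84.surjective_of_isLocallyTrivialFor (X := (Over.mk π.left : Over C.left))
    ⟨R, Scheme.fppfPrecoverage_le_fpqcPrecoverage _ hR, hs⟩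
  haveI : LocallyOfFiniteType (π.left ≫ C.hom) := by rw [Over.w π]; infer_instance
  haveI : LocallyOfFiniteType π.left := locallyOfFiniteType_of_comp π.left C.hom
  let q := pullback.fst c.left π.left
  haveI : LocallyOfFiniteType q := MorphismProperty.pullback_fst (P := @LocallyOfFiniteType) _ _ inferInstance
  haveI : Surjective q := MorphismProperty.pullback_fst (P := @Surjective) _ _ inferInstance
  haveI : JacobsonSpace ↥(pullback c.left π.left) := LocallyOfFiniteType.jacobsonSpace (Y := Spec _) q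
  obtain ⟨z₀, -⟩ := q.surjective (IsLocalRing.closedPoint K)
  obtain ⟨z, -, hz⟩ := nonempty_inter_closedPoints ⟨z₀, Set.mem_univ _⟩
    (isOpen_univ (X := ↥(pullback c.left π.left))).isLocallyClosed
  rw [mem_closedPoints_iff] at hz
  let zp := pointOfClosedPoint q z hz
  have h : zp ≫ pullback.snd c.left π.left ≫ π.left = c.left := by
    rw [← pullback.condition, ← Category.assoc, pointOfClosedPoint_comp]
    exact Category.id_comp _
  refine ⟨Over.homMk (zp ≫ pullback.snd c.left π.left) ?_, Over.OverMorphism.ext ?_⟩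
  · show (zp ≫ pullback.snd c.left π.left) ≫ B.hom = _
    rw [← Over.w π, Category.assoc, reassoc_of% h]
    exact Over.w c
  · show (zp ≫ pullback.snd c.left π.left) ≫ π.left = c.left
    rw [Category.assoc, h]

variable [Finite k] {K : Type u} [Field K] [Algebra k K] [IsAlgClosure k K]

/-- Lang's theorem in the kernel, twisted by a point of the group. -/
theorem exists_lang_kernel [LocallyOfFiniteType A.hom] [ConnectedSpace A.left] (b : SGA7.Pts K B)
    (a : SGA7.Pts K A) :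
    ∃ d : SGA7.Pts K A, (d ≫ i)⁻¹ * (b * frob k K • (d ≫ i) * b⁻¹) = a ≫ i := by
  letI := Fintype.ofFinite k
  let P := SGA7.pt (K := k) K
  obtain ⟨Φ, hΦ⟩ := exists_kernel_lift hex ((snd A P ≫ b) * (fst A P ≫ i) * (snd A P ≫ b)⁻¹) (by
    rw [MonObj.mul_comp, MonObj.mul_comp, GrpObj.inv_comp, Category.assoc (fst A P) i π, comp_eq_one hex,
      MonObj.comp_one, mul_one, mul_inv_cancel])
  have hval : ∀ {T : Over (Spec (CommRingCat.of k))} (x : T ⟶ A) (p : T ⟶ P),
      (lift x p ≫ Φ) ≫ i = (p ≫ b) * (x ≫ i) * (p ≫ b)⁻¹ := fun x p => by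
    rw [Category.assoc, hΦ]
    simp only [MonObj.comp_mul, GrpObj.comp_inv, lift_snd_assoc, lift_fst_assoc]
  obtain ⟨d, hd⟩ := Lang44.exists_lang (K := K) Φ a fun p x y => kernel_ext hex (by
    rw [hval, MonObj.mul_comp, MonObj.mul_comp, hval, hval]
    group)
  refine ⟨d, ?_⟩
  rw [← hd, MonObj.mul_comp, GrpObj.inv_comp, hval, Category.id_comp]
  congr 3

theorem bijective_H1lcMap [LocallyOfFiniteType A.hom] [LocallyOfFiniteType B.hom] [QuasiCompact B.hom]
    [ConnectedSpace A.left] :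
    Function.Bijective (GalTw.H1lcMap (GalTw.ptsMap (K := K) π) (GalTw.ptsMap_smul (K := K) π)) := by
  haveI : IsAlgClosed K := IsAlgClosure.isAlgClosed k
  constructor
  · intro c₁ c₂ h
    induction c₁ using Quotient.inductionOn with | h z => ?_
    induction c₂ using Quotient.inductionOn with | h z' => ?_
    obtain ⟨d, hd⟩ := (GpH1.OneCocycleLC.cl_eq_cl_iff _ _).1 h
    obtain ⟨e, he⟩ := exists_pts_lift hex d
    let F := frob k K
    let b : SGA7.Pts K B := e⁻¹ * z'.1 F * F • e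
    have hdF : z.1 F ≫ π = d⁻¹ * (z'.1 F ≫ π) * F • d := hd F
    have hb : (z.1 F * b⁻¹) ≫ π = 1 := by
      have hbπ : b ≫ π = z.1 F ≫ π := by
        rw [hdF, ← he]
        show GalTw.ptsMap (K := K) π (e⁻¹ * z'.1 F * F • e) = _
        rw [map_mul, map_mul, map_inv, GalTw.ptsMap_smul]
        rfl
      rw [MonObj.mul_comp, GrpObj.inv_comp, hbπ, mul_inv_cancel]
    obtain ⟨a, ha⟩ := exists_kernel_lift hex _ hb
    obtain ⟨d', hd'⟩ := exists_lang_kernel hex b a
    refine (GpH1.OneCocycleLC.cl_eq_cl_iff _ _).2 ⟨e * (d' ≫ i), fun σ => ?_⟩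
    refine cocycle_ext_frob z (conjCoc z' (e * (d' ≫ i))) ?_ σ
    show z.1 F = (e * (d' ≫ i))⁻¹ * z'.1 F * F • (e * (d' ≫ i))
    rw [ha] at hd'
    rw [show z.1 F = ((d' ≫ i)⁻¹ * (b * F • (d' ≫ i) * b⁻¹)) * b by rw [hd', inv_mul_cancel_right], smul_mul']
    simp only [b]
    group
  · intro c
    induction c using Quotient.inductionOn with | h z => ?_
    obtain ⟨b, hb⟩ := exists_pts_lift hex (z.1 (frob k K))
    obtain ⟨zB, hzB⟩ := exists_cocycle_frob b
    refine ⟨zB.cl, ?_⟩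
    rw [GalTw.H1lcMap_cl]
    show _ = z.cl
    refine (GpH1.OneCocycleLC.cl_eq_cl_iff _ _).2 ⟨1, fun σ => ?_⟩
    rw [inv_one, one_mul, smul_one, mul_one]
    refine cocycle_ext_frob _ z ?_ σ
    show zB.1 (frob k K) ≫ π = _
    rw [hzB, hb]

theorem card_fixGrp_mul [LocallyOfFiniteType A.hom] [LocallyOfFiniteType B.hom] [ConnectedSpace A.left]
    (c : AlgGrp.Action B A) (hc : c.act ≫ i = fst B A * (snd B A ≫ i) * (fst B A)⁻¹)
    (z : GpH1.OneCocycleLC (K ≃ₐ[k] K) (SGA7.Pts K B)) :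
    Nat.card (fixGrp z) = Nat.card (FixPt c z) *
      Nat.card (fixGrp (GalTw.lcMap (GalTw.ptsMap (K := K) π) (GalTw.ptsMap_smul (K := K) π) z)) := by
  haveI : IsAlgClosed K := IsAlgClosure.isAlgClosed k
  let zC := GalTw.lcMap (GalTw.ptsMap (K := K) π) (GalTw.ptsMap_smul (K := K) π) z
  have hcv : ∀ (b : SGA7.Pts K B) (x : SGA7.Pts K A), (lift b x ≫ c.act) ≫ i = b * (x ≫ i) * b⁻¹ := fun b x => by
    rw [Category.assoc, hc]
    simp only [MonObj.comp_mul, GrpObj.comp_inv, lift_fst, lift_snd_assoc]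
  have hsm : ∀ (σ : K ≃ₐ[k] K) (x : SGA7.Pts K A), σ • (x ≫ i) = (σ • x) ≫ i := fun σ x =>
    by rw [GalTw.pts_smul_def, GalTw.pts_smul_def]; exact (Category.assoc _ _ _).symm
  let f : fixGrp z →* fixGrp zC :=
    { toFun := fun g => ⟨g.1 ≫ π, fun σ => by
        have h := congrArg (GalTw.ptsMap (K := K) π) (g.2 σ)
        rw [map_mul, map_mul, map_inv, GalTw.ptsMap_smul] at h
        exact h⟩
      map_one' := Subtype.ext (MonObj.one_comp π)
      map_mul' := fun g g' => Subtype.ext (MonObj.mul_comp g.1 g'.1 π) }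
  have hf : Function.Surjective f := by
    rintro ⟨cpt, hcp⟩
    obtain ⟨g, hg⟩ := exists_pts_lift hex cpt
    let F := frob k K
    let b := z.1 F
    have h0 : (g⁻¹ * (b * F • g * b⁻¹)) ≫ π = 1 := by
      show GalTw.ptsMap (K := K) π (g⁻¹ * (b * F • g * b⁻¹)) = 1
      rw [map_mul, map_mul, map_mul, map_inv, map_inv, GalTw.ptsMap_smul]
      show (g ≫ π)⁻¹ * ((b ≫ π) * F • (g ≫ π) * (b ≫ π)⁻¹) = 1
      rw [hg, show (b ≫ π) * F • cpt * (b ≫ π)⁻¹ = cpt from hcp F, inv_mul_cancel]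
    obtain ⟨a, ha⟩ := exists_kernel_lift hex _ h0
    obtain ⟨d, hd⟩ := exists_lang_kernel hex b a
    rw [ha] at hd
    refine ⟨⟨g * (d ≫ i)⁻¹, fun σ => ?_⟩, Subtype.ext ?_⟩
    · have hF : z.1 F * F • (g * (d ≫ i)⁻¹) * (z.1 F)⁻¹ = g * (d ≫ i)⁻¹ := by
        rw [smul_mul', smul_inv']
        have e2 : b * F • g * b⁻¹ = g * ((d ≫ i)⁻¹ * (b * F • (d ≫ i) * b⁻¹)) := by rw [hd]; group
        calc b * (F • g * (F • (d ≫ i))⁻¹) * b⁻¹ = (b * F • g * b⁻¹) * (b * F • (d ≫ i) * b⁻¹)⁻¹ := by group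
          _ = _ := by rw [e2]; group
      have h1 : z.1 σ = (conjCoc z (g * (d ≫ i)⁻¹)).1 σ := cocycle_ext_frob z _ (by
        show z.1 F = (g * (d ≫ i)⁻¹)⁻¹ * z.1 F * F • (g * (d ≫ i)⁻¹)
        rw [mul_inv_eq_iff_eq_mul] at hF
        rw [mul_assoc, hF, inv_mul_cancel_left]) σ
      rw [mul_inv_eq_iff_eq_mul]
      conv_rhs => rw [h1]
      show _ = (g * (d ≫ i)⁻¹) * ((g * (d ≫ i)⁻¹)⁻¹ * z.1 σ * σ • (g * (d ≫ i)⁻¹))
      group
    · show (g * (d ≫ i)⁻¹) ≫ π = cpt
      rw [MonObj.mul_comp, GrpObj.inv_comp, Category.assoc, comp_eq_one hex, MonObj.comp_one, inv_one, mul_one, hg]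
  have hker : Nat.card f.ker = Nat.card (FixPt c z) := by
    refine (Nat.card_congr (Equiv.ofBijective
      (fun x : FixPt c z => (⟨⟨x.1 ≫ i, fun σ => by rw [hsm, ← hcv, x.2 σ]⟩, Subtype.ext (by
        show (x.1 ≫ i) ≫ π = 1
        rw [Category.assoc, comp_eq_one hex, MonObj.comp_one])⟩ : f.ker)) ⟨fun x y h => ?_, fun g => ?_⟩)).symm
    · exact Subtype.ext (kernel_ext hex (congrArg (fun t : f.ker => t.1.1) h))
    · obtain ⟨⟨g, hg⟩, hk⟩ := g
      obtain ⟨x, rfl⟩ := exists_kernel_lift hex g (congrArg Subtype.val hk)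
      exact ⟨⟨x, fun σ => kernel_ext hex (by rw [hcv, ← hsm]; exact hg σ)⟩, rfl⟩
  rw [Subgroup.card_eq_card_quotient_mul_card_subgroup f.ker, hker,
    Nat.card_congr (QuotientGroup.quotientKerEquivOfSurjective f hf).toEquiv, mul_comm]

end Groth.Agent.PtCount44
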