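import Groth.Agent.PtCount44.Torsor
import Groth.Agent.GalTw97.GrpForm
import Groth.Agent.Zeta30.Sum
import Groth.Prelude.Def_GalTw2
import Mathlib.FieldTheory.Galois.Infinite

/-!
Points fixed by a twisted Galois action, finiteness, and the points of twists.
-/

set_option autoImplicit false
set_option linter.style.haveILetI false
set_option backward.isDefEq.respectTransparency false
set_option backward.isDefEq.respectTransparency.types false
universe u

open CategoryTheory CategoryTheory.Limits MonoidalCategory CartesianMonoidalCategory AlgebraicGeometry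
open Groth.Agent.AlgSt88
open scoped MonObj GrpObj

namespace Groth.Agent.PtCount44

variable {k : Type u} [Field k] {K : Type u} [Field K] [Algebra k K]
variable {G X : Over (Spec (CommRingCat.of k))}

section Factor

/-- A point fixed by the automorphisms fixing a subfield is defined over it. -/
theorem exists_factor_of_fixed [IsGalois k K] (L : IntermediateField k K) (x : SGA7.Pts K X)
    (h : ∀ σ ∈ L.fixingSubgroup, σ • x = x) : ∃ x' : SGA7.pt (K := k) L ⟶ X, lv L ≫ x' = x := by
  obtain ⟨_, ⟨U, hU, rfl⟩, hmem, -⟩ := X.left.isBasis_affineOpens.exists_subset_of_mem_open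
    (Set.mem_univ (x.left (IsLocalRing.closedPoint K))) isOpen_univ
  have hsub : Set.range x.left ⊆ Set.range hU.fromSpec := by
    rw [hU.range_fromSpec]
    rintro _ ⟨z, rfl⟩
    rwa [show z = IsLocalRing.closedPoint K from Subsingleton.elim (α := PrimeSpectrum K) _ _]
  let r := Spec.preimage (IsOpenImmersion.lift hU.fromSpec x.left hsub)
  have hr : Spec.map r ≫ hU.fromSpec = x.left := by
    rw [Spec.map_preimage]
    exact IsOpenImmersion.lift_fac _ _ hsub
  have hmem' : ∀ b, r.hom b ∈ L := by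
    intro b
    rw [← InfiniteGalois.fixedField_fixingSubgroup L]
    intro σ
    have h1 : r ≫ CommRingCat.ofHom ((σ : K ≃ₐ[k] K) : K →+* K) = r := by
      apply Spec.map_injective
      rw [← cancel_mono hU.fromSpec, Spec.map_comp, Category.assoc, hr]
      exact congrArg (fun t => t.left) (h σ.1 σ.2)
    exact congrArg (fun t => t.hom b) h1
  let rL : Γ(X.left, U) →+* L := r.hom.codRestrict L hmem'
  have hrL : Spec.map (CommRingCat.ofHom (algebraMap L K)) ≫ Spec.map (CommRingCat.ofHom rL) ≫ hU.fromSpec = x.left := by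
    rw [← Category.assoc, ← Spec.map_comp, ← hr]
    congr 2
  refine ⟨Over.homMk (Spec.map (CommRingCat.ofHom rL) ≫ hU.fromSpec) ?_, Over.OverMorphism.ext hrL⟩
  haveI := epi_lv L
  obtain ⟨φ, hφ⟩ := Spec.map_surjective ((Spec.map (CommRingCat.ofHom rL) ≫ hU.fromSpec) ≫ X.hom)
  rw [← hφ]
  show Spec.map φ = Spec.map (CommRingCat.ofHom (algebraMap k L))
  congr 1
  have h2 : φ ≫ CommRingCat.ofHom (algebraMap L K) = CommRingCat.ofHom (algebraMap k K) := by
    apply Spec.map_injective
    rw [Spec.map_comp, hφ, ← Category.assoc, hrL]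
    exact Over.w x
  refine CommRingCat.hom_ext (RingHom.ext fun c => (algebraMap L K).injective ?_)
  exact congrArg (fun t => t.hom c) h2

/-- The map from the spectrum of the big field. -/
noncomputable def proj (k : Type u) [Field k] (K : Type u) [Field K] [Algebra k K] :
    SGA7.pt (K := k) K ⟶ SGA7.pt (K := k) k :=
  Over.homMk (Spec.map (CommRingCat.ofHom (algebraMap k K))) (by
    show Spec.map _ ≫ Spec.map (CommRingCat.ofHom (algebraMap k k)) = _
    rw [← Spec.map_comp, ← CommRingCat.ofHom_comp, ← IsScalarTower.algebraMap_eq]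
    rfl)

theorem epi_proj : Epi (proj k K) := by
  let f := Spec.map (CommRingCat.ofHom (algebraMap k K))
  have : Flat f := by
    show Flat (Spec.map (CommRingCat.ofHom (algebraMap k K)))
    rw [HasRingHomProperty.Spec_iff (P := @Flat)]
    exact RingHom.flat_algebraMap_iff.mpr inferInstance
  have : Surjective f :=
    ⟨fun x => ⟨IsLocalRing.closedPoint K, Subsingleton.elim (α := PrimeSpectrum k) _ x⟩⟩
  have : QuasiCompact f := inferInstanceAs (QuasiCompact (Spec.map (CommRingCat.ofHom (algebraMap k K))))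
  have : Epi (proj k K).left := show Epi f by infer_instance
  exact (Over.forget _).epi_of_epi_map this

theorem specAut_proj (σ : K ≃ₐ[k] K) : SGA7.specAut σ ≫ proj k K = proj k K :=
  Over.OverMorphism.ext (SGA7.spec_map_algEquiv_comp σ)

/-- Rational points are the fixed points. -/
theorem bijective_proj [IsGalois k K] :
    Function.Bijective fun y : SGA7.Pts k X =>
      (⟨proj k K ≫ y, fun σ => by rw [GalTw.pts_smul_def, ← Category.assoc, specAut_proj]⟩ :
        {x : SGA7.Pts K X // ∀ σ : K ≃ₐ[k] K, σ • x = x}) := by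
  refine ⟨fun y y' h => ?_, fun ⟨x, hx⟩ => ?_⟩
  · haveI := epi_proj (k := k) (K := K)
    exact (cancel_epi (proj k K)).1 (congrArg Subtype.val h)
  · obtain ⟨x', hx'⟩ := exists_factor_of_fixed ⊥ x fun σ _ => hx σ
    let e : SGA7.pt (K := k) k ⟶ SGA7.pt (K := k) (⊥ : IntermediateField k K) :=
      Over.homMk (Spec.map (CommRingCat.ofHom (IntermediateField.botEquiv k K).toAlgHom.toRingHom)) (by
        show Spec.map _ ≫ Spec.map _ = Spec.map _
        rw [← Spec.map_comp, ← CommRingCat.ofHom_comp]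
        congr 2
        exact (IntermediateField.botEquiv k K).toAlgHom.comp_algebraMap)
    have he : proj k K ≫ e = lv ⊥ := by
      ext1
      show Spec.map _ ≫ Spec.map _ = Spec.map _
      rw [← Spec.map_comp, ← CommRingCat.ofHom_comp]
      congr 2
      ext c
      obtain ⟨c, rfl⟩ := (IntermediateField.botEquiv k K).symm.surjective c
      simp
    refine ⟨e ≫ x', Subtype.ext ?_⟩
    show proj k K ≫ e ≫ x' = x
    rw [← Category.assoc, he, hx']

theorem finite_level_points [Finite k] [LocallyOfFiniteType X.hom] [QuasiCompact X.hom]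
    (L : IntermediateField k K) [FiniteDimensional k L] : Finite (SGA7.pt (K := k) L ⟶ X) := by
  haveI : Finite L := Module.finite_of_finite k
  let φ : CommRingCat.of (ULift.{u} ℤ) ⟶ CommRingCat.of k :=
    CommRingCat.ofHom ((Int.castRingHom k).comp ULift.ringEquiv.toRingHom)
  have hφ : φ.hom.FiniteType := by
    letI := φ.hom.toAlgebra
    exact RingHom.Finite.finiteType (show φ.hom.Finite from @Module.Finite.of_finite _ _ _ _ φ.hom.toAlgebra.toModule _)
  haveI : LocallyOfFiniteType (Spec.map φ) :=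
    (HasRingHomProperty.Spec_iff (P := @LocallyOfFiniteType)).2 hφ
  have := Zeta30.finite_points (X := X.left) (X.hom ≫ Spec.map φ) L
  haveI : Finite ((SGA7.pt (K := k) L).left ⟶ X.left) := this
  exact Finite.of_injective (fun x : SGA7.pt (K := k) L ⟶ X => x.left) fun x x' h => Over.OverMorphism.ext h

end Factor

variable [GrpObj G] (aX : AlgGrp.Action G X) (z : GpH1.OneCocycleLC (K ≃ₐ[k] K) (SGA7.Pts K G))

/-- The points fixed by the twisted action. -/
abbrev FixPt : Type u :=
  {x : SGA7.Pts K X // ∀ σ : K ≃ₐ[k] K, lift (z.1 σ) (σ • x) ≫ aX.act = x}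

/-- The points of the group fixed by the inner twisted action. -/
noncomputable def fixGrp (z : GpH1.OneCocycleLC (K ≃ₐ[k] K) (SGA7.Pts K G)) : Subgroup (SGA7.Pts K G) where
  carrier := {g | ∀ σ : K ≃ₐ[k] K, z.1 σ * σ • g * (z.1 σ)⁻¹ = g}
  one_mem' σ := by rw [smul_one, mul_one, mul_inv_cancel]
  mul_mem' {g h} hg hh σ := by
    rw [smul_mul']
    conv_rhs => rw [← hg σ, ← hh σ]
    group
  inv_mem' {g} hg σ := by
    rw [smul_inv']
    conv_rhs => rw [← hg σ]
    group

theorem act_mem_fixPt (g : fixGrp z) (x : FixPt aX z) (σ : K ≃ₐ[k] K) :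
    lift (z.1 σ) (σ • (lift g.1 x.1 ≫ aX.act : SGA7.Pts K X)) ≫ aX.act = lift g.1 x.1 ≫ aX.act := by
  rw [smul_act, ← act_lift_mul]
  conv_rhs => rw [← x.2 σ, ← act_lift_mul, ← g.2 σ, inv_mul_cancel_right]

/-- The action of the fixed group on the fixed points. -/
@[reducible] noncomputable def fixAction : MulAction (fixGrp z) (FixPt aX z) where
  smul g x := ⟨lift g.1 x.1 ≫ aX.act, act_mem_fixPt aX z g x⟩
  one_smul x := Subtype.ext (act_lift_one aX x.1)
  mul_smul g h x := Subtype.ext (act_lift_mul aX g.1 h.1 x.1)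

variable [Finite k] [IsAlgClosure k K]

theorem isGalois_closure (k : Type u) [Field k] [Finite k] (K : Type u) [Field K] [Algebra k K]
    [IsAlgClosure k K] : IsGalois k K :=
  haveI : Normal k K := IsAlgClosure.normal k K
  { }

theorem exists_level_trivial : ∃ E : IntermediateField k K, FiniteDimensional k E ∧
    ∀ u ∈ E.fixingSubgroup, z.1 u = 1 := by
  haveI : Normal k K := IsAlgClosure.normal k K
  obtain ⟨E, hE, -, hu⟩ := GalH1.exists_factor_of_isLocallyConstant z.1.1 z.2
  exact ⟨E, hE, fun u h => (hu u h).trans (GalTw.oneCocycle_one z.1)⟩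

theorem finite_fixPt [LocallyOfFiniteType X.hom] [QuasiCompact X.hom] : Finite (FixPt aX z) := by
  haveI := isGalois_closure k K
  obtain ⟨E, hE, hu⟩ := exists_level_trivial z
  haveI := finite_level_points (X := X) E
  have h : ∀ x : FixPt aX z, ∃ x' : SGA7.pt (K := k) E ⟶ X, lv E ≫ x' = x.1 := fun x =>
    exists_factor_of_fixed E x.1 fun σ hσ => by
      have h := x.2 σ
      rwa [hu σ hσ, act_lift_one] at h
  choose f hf using h
  exact Finite.of_injective f fun x y e => Subtype.ext (by rw [← hf x, e, hf y])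

theorem finite_fixGrp [LocallyOfFiniteType G.hom] [QuasiCompact G.hom] : Finite (fixGrp z) := by
  haveI := isGalois_closure k K
  obtain ⟨E, hE, hu⟩ := exists_level_trivial z
  haveI := finite_level_points (X := G) E
  have h : ∀ x : fixGrp z, ∃ x' : SGA7.pt (K := k) E ⟶ G, lv E ≫ x' = x.1 := fun x =>
    exists_factor_of_fixed E x.1 fun σ hσ => by
      have h := x.2 σ
      rwa [hu σ hσ, one_mul, inv_one, mul_one] at h
  choose f hf using h
  exact Finite.of_injective f fun x y e => Subtype.ext (by rw [← hf x, e, hf y])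

section Twist

variable {Y : Over (Spec (CommRingCat.of k))}

/-- The map on points induced by a morphism of base changes. -/
noncomputable def ptMap (φ : GalTw.bcK K Y ⟶ GalTw.bcK K X) (y : SGA7.Pts K Y) : SGA7.Pts K X :=
  lift y (𝟙 _) ≫ Over.homMk (φ.left ≫ pullback.fst X.hom (SGA7.pt (K := k) K).hom) (by
    show (φ.left ≫ pullback.fst X.hom (SGA7.pt (K := k) K).hom) ≫ X.hom =
      pullback.fst Y.hom (SGA7.pt (K := k) K).hom ≫ Y.hom
    rw [Category.assoc, pullback.condition, pullback.condition, ← Category.assoc]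
    exact congrArg (· ≫ (SGA7.pt (K := k) K).hom) (Over.w φ))

theorem lift_comp_left (φ : GalTw.bcK K Y ⟶ GalTw.bcK K X) (y : SGA7.Pts K Y) :
    (lift y (𝟙 _)).left ≫ φ.left = (lift (ptMap φ y) (𝟙 _)).left := by
  apply pullback.hom_ext
  · rw [Category.assoc]
    exact (congrArg (fun t => t.left) (lift_fst (ptMap φ y) (𝟙 (SGA7.pt (K := k) K)))).symm
  · rw [Category.assoc]
    refine ((congrArg ((lift y (𝟙 _)).left ≫ ·) (Over.w φ)).trans ?_).trans
      (congrArg (fun t => t.left) (lift_snd (ptMap φ y) (𝟙 (SGA7.pt (K := k) K)))).symm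
    exact congrArg (fun t => t.left) (lift_snd y (𝟙 (SGA7.pt (K := k) K)))

theorem ptMap_comp {Z : Over (Spec (CommRingCat.of k))} (φ : GalTw.bcK K Y ⟶ GalTw.bcK K X)
    (ψ : GalTw.bcK K X ⟶ GalTw.bcK K Z) (y : SGA7.Pts K Y) : ptMap (φ ≫ ψ) y = ptMap ψ (ptMap φ y) := by
  ext1
  show (lift y (𝟙 _)).left ≫ (φ.left ≫ ψ.left) ≫ _ = (lift (ptMap φ y) (𝟙 _)).left ≫ ψ.left ≫ _
  rw [Category.assoc, ← Category.assoc, lift_comp_left]

theorem ptMap_id (y : SGA7.Pts K Y) : ptMap (𝟙 (GalTw.bcK K Y)) y = y := by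
  ext1
  show (lift y (𝟙 _)).left ≫ 𝟙 _ ≫ pullback.fst _ _ = y.left
  rw [Category.id_comp]
  exact congrArg (fun t => t.left) (lift_fst y (𝟙 (SGA7.pt (K := k) K)))

theorem ptMap_twHom (σ : K ≃ₐ[k] K) (φ : GalTw.bcK K Y ⟶ GalTw.bcK K X) (y : SGA7.Pts K Y) :
    ptMap (GalTw.twHom σ φ) (σ • y) = σ • ptMap φ y := by
  ext1
  show (lift (σ • y) (𝟙 _)).left ≫ (GalTw.galMap K σ Y ≫ φ.left ≫ GalTw.galMap K σ⁻¹ X) ≫ pullback.fst _ _ =
    (SGA7.specAut σ).left ≫ (lift y (𝟙 _)).left ≫ φ.left ≫ pullback.fst _ _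
  simp only [Category.assoc, GalTw.galMap_fst]
  rw [← whiskerLeft_specAut_left]
  rw [← Category.assoc, ← Category.assoc (SGA7.specAut σ).left]
  congr 1
  rw [← Over.comp_left, ← Over.comp_left, comp_lift, lift_whiskerLeft, Category.id_comp, Category.comp_id]
  rfl

/-- An isomorphism of base changes transporting the Galois action to a twisted one. -/
theorem card_pts_of_iso (φ : GalTw.bcK K Y ≅ GalTw.bcK K X) (S : (K ≃ₐ[k] K) → SGA7.Pts K X → SGA7.Pts K X)
    (hS : ∀ σ y, ptMap (GalTw.cocycle φ σ).hom y = S σ y) :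
    Nat.card (SGA7.Pts k Y) = Nat.card {x : SGA7.Pts K X // ∀ σ : K ≃ₐ[k] K, S σ (σ • x) = x} := by
  haveI := isGalois_closure k K
  rw [Nat.card_congr (Equiv.ofBijective _ (bijective_proj (k := k) (K := K) (X := Y)))]
  have key : ∀ (σ : K ≃ₐ[k] K) (y : SGA7.Pts K Y), S σ (σ • ptMap φ.hom y) = ptMap φ.hom (σ • y) := fun σ y => by
    rw [← hS, ← ptMap_twHom, ← ptMap_comp, GalTw.cocycle_apply_hom, GalTw.twIso_inv, ← Category.assoc,
      ← GalTw.twHom_comp, φ.hom_inv_id, GalTw.twHom_id, Category.id_comp]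
  let e : SGA7.Pts K Y ≃ SGA7.Pts K X :=
    { toFun := ptMap φ.hom
      invFun := ptMap φ.inv
      left_inv := fun y => by rw [← ptMap_comp, φ.hom_inv_id, ptMap_id]
      right_inv := fun x => by rw [← ptMap_comp, φ.inv_hom_id, ptMap_id] }
  refine Nat.card_congr (Equiv.subtypeEquiv e fun y => ⟨fun h σ => ?_, fun h σ => e.injective ?_⟩)
  · show S σ (σ • ptMap φ.hom y) = ptMap φ.hom y
    rw [key, h σ]
  · show ptMap φ.hom (σ • y) = ptMap φ.hom y
    rw [← key]
    exact h σ

theorem card_actTwist (hY : GalTw.IsActTwist K aX z.1 Y) : Nat.card (SGA7.Pts k Y) = Nat.card (FixPt aX z) := by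
  obtain ⟨φ, hφ⟩ := hY
  refine card_pts_of_iso φ (fun σ x => lift (z.1 σ) x ≫ aX.act) fun σ x => ?_
  rw [hφ σ]
  ext1
  show (lift x (𝟙 _)).left ≫ pullback.lift _ _ _ ≫ pullback.fst _ _ = _
  rw [pullback.lift_fst, ← Over.comp_left]
  exact congrArg (fun t : SGA7.pt (K := k) K ⟶ X => t.left)
    (show lift x (𝟙 _) ≫ lift (snd X _ ≫ z.1 σ) (fst X (SGA7.pt (K := k) K)) ≫ aX.act = lift (z.1 σ) x ≫ aX.act by
      rw [comp_lift_assoc, lift_snd_assoc, lift_fst, Category.id_comp])

theorem card_innTwist [GrpObj Y] (hY : GalTw.IsInnTwist K G z.1 Y) :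
    Nat.card (SGA7.Pts k Y) = Nat.card (fixGrp z) := by
  obtain ⟨φ, -, hφ⟩ := hY
  refine card_pts_of_iso φ (fun σ x => z.1 σ * x * (z.1 σ)⁻¹) fun σ x => ?_
  rw [hφ σ]
  have hd : ∀ w : GalTw.bcK K G ⟶ GalTw.bcK K G, ptMap w x =
      (Over.homMk (lift x (𝟙 (SGA7.pt (K := k) K))).left
        (by
          show _ ≫ pullback.snd G.hom (SGA7.pt (K := k) K).hom ≫ (SGA7.pt (K := k) K).hom = _
          rw [← Category.assoc]
          exact (congrArg (· ≫ (SGA7.pt (K := k) K).hom)
            (congrArg (fun t => t.left) (lift_snd x (𝟙 (SGA7.pt (K := k) K))))).trans (Category.id_comp _)) :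
        SGA7.pt (K := k) K ⟶ (Over.map (SGA7.pt (K := k) K).hom).obj (GalTw.bcK K G)) ≫ GalTw97.down w :=
    fun w => rfl
  have hc : ∀ c : SGA7.Pts K G, ptMap (toUnit (GalTw.bcK K G) ≫ GalTw.secOfPt K c) x = c := fun c => by
    ext1
    show (lift x (𝟙 _)).left ≫ ((toUnit (GalTw.bcK K G)).left ≫ pullback.lift c.left (𝟙 _) _) ≫ pullback.fst _ _ = c.left
    rw [Category.assoc, pullback.lift_fst]
    show (lift x (𝟙 _)).left ≫ pullback.snd _ _ ≫ c.left = c.left
    rw [← Category.assoc]
    exact congrArg (· ≫ c.left) (congrArg (fun t => t.left) (lift_snd x (𝟙 (SGA7.pt (K := k) K)))) |>.trans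
      (Category.id_comp _)
  have hinv : ∀ w : GalTw.bcK K G ⟶ GalTw.bcK K G, GalTw97.down w⁻¹ = (GalTw97.down w)⁻¹ := fun w =>
    map_inv (MonoidHom.mk' (fun w : GalTw.bcK K G ⟶ GalTw.bcK K G => GalTw97.down w) GalTw97.down_mul) w
  show ptMap ((toUnit _ ≫ GalTw.secOfPt K (z.1 σ)) * 𝟙 _ * (toUnit _ ≫ GalTw.secOfPt K (z.1 σ))⁻¹) x = _
  rw [hd, GalTw97.down_mul, GalTw97.down_mul, hinv, MonObj.comp_mul, MonObj.comp_mul, GrpObj.comp_inv,
    ← hd, ← hd, hc, ptMap_id]

end Twist

end Groth.Agent.PtCount44
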