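import Groth.Agent.GalTw97.Descent
import Groth.Agent.GalH1.LocConst
import Mathlib.AlgebraicGeometry.Morphisms.Etale
import Mathlib.FieldTheory.Finite.GaloisField
import Mathlib.FieldTheory.IsAlgClosed.Basic

/-!
Points over an algebraic closure are defined over finite levels, and Galois descent for morphisms
out of `Y ⊗ Spec L`.
-/

set_option autoImplicit false
set_option linter.style.haveILetI false
set_option backward.isDefEq.respectTransparency false
set_option backward.isDefEq.respectTransparency.types false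
universe u

open CategoryTheory CategoryTheory.Limits MonoidalCategory CartesianMonoidalCategory AlgebraicGeometry

namespace Groth.Agent.PtCount44

variable {k : Type u} [Field k] {K : Type u} [Field K] [Algebra k K]

/-- The projection from the spectrum of a field to that of a subfield. -/
noncomputable def lv (L : IntermediateField k K) : SGA7.pt (K := k) K ⟶ SGA7.pt (K := k) L :=
  Over.homMk (Spec.map (CommRingCat.ofHom (algebraMap L K))) (by
    show Spec.map _ ≫ Spec.map (CommRingCat.ofHom (algebraMap k L)) = Spec.map (CommRingCat.ofHom (algebraMap k K))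
    rw [← Spec.map_comp, ← CommRingCat.ofHom_comp, ← IsScalarTower.algebraMap_eq])

/-- The projection between the spectra of two subfields. -/
noncomputable def lv' {L M : IntermediateField k K} (h : L ≤ M) : SGA7.pt (K := k) M ⟶ SGA7.pt (K := k) L :=
  Over.homMk (Spec.map (CommRingCat.ofHom (IntermediateField.inclusion h).toRingHom)) (by
    show Spec.map _ ≫ Spec.map (CommRingCat.ofHom (algebraMap k L)) = Spec.map (CommRingCat.ofHom (algebraMap k M))
    rw [← Spec.map_comp, ← CommRingCat.ofHom_comp]
    congr 2)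

@[reassoc]
theorem lv_lv' {L M : IntermediateField k K} (h : L ≤ M) : lv M ≫ lv' h = lv L := by
  ext1
  show Spec.map _ ≫ Spec.map _ = Spec.map _
  rw [← Spec.map_comp, ← CommRingCat.ofHom_comp]
  rfl

theorem epi_lv (L : IntermediateField k K) : Epi (lv L) := by
  let f := Spec.map (CommRingCat.ofHom (algebraMap L K))
  have : Flat f := by
    show Flat (Spec.map (CommRingCat.ofHom (algebraMap L K)))
    rw [HasRingHomProperty.Spec_iff (P := @Flat)]
    exact RingHom.flat_algebraMap_iff.mpr inferInstance
  have : Surjective f :=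
    ⟨fun x => ⟨IsLocalRing.closedPoint K, Subsingleton.elim (α := PrimeSpectrum L) _ x⟩⟩
  have : QuasiCompact f := inferInstanceAs (QuasiCompact (Spec.map (CommRingCat.ofHom (algebraMap L K))))
  have : Epi (lv L).left := show Epi f by infer_instance
  exact (Over.forget _).epi_of_epi_map this

@[reassoc]
theorem lv_specAut (L : IntermediateField k K) [Normal k L] (σ : K ≃ₐ[k] K) :
    lv L ≫ SGA7.specAut (AlgEquiv.restrictNormalHom L σ) = SGA7.specAut σ ≫ lv L := by
  ext1
  show Spec.map _ ≫ Spec.map _ = Spec.map _ ≫ Spec.map _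
  rw [← Spec.map_comp, ← Spec.map_comp]
  congr 1
  ext x
  exact AlgEquiv.restrictNormalHom_apply L σ x

/-- A point over an algebraic extension is defined over a finite level. -/
theorem exists_level [Algebra.IsAlgebraic k K] {X : Over (Spec (CommRingCat.of k))}
    [LocallyOfFiniteType X.hom] (x : SGA7.pt (K := k) K ⟶ X) :
    ∃ (L : IntermediateField k K), FiniteDimensional k L ∧ ∃ x' : SGA7.pt (K := k) L ⟶ X, lv L ≫ x' = x := by
  obtain ⟨_, ⟨U, hU, rfl⟩, hmem, -⟩ := X.left.isBasis_affineOpens.exists_subset_of_mem_open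
    (Set.mem_univ (x.left (IsLocalRing.closedPoint K))) isOpen_univ
  have hsub : Set.range x.left ⊆ Set.range hU.fromSpec := by
    rw [hU.range_fromSpec]
    rintro _ ⟨z, rfl⟩
    rwa [show z = IsLocalRing.closedPoint K from Subsingleton.elim (α := PrimeSpectrum K) _ _]
  let r := Spec.preimage (IsOpenImmersion.lift hU.fromSpec x.left hsub)
  have hr : Spec.map r ≫ hU.fromSpec = x.left := by
    rw [Spec.map_preimage]
    exact IsOpenImmersion.lift_fac _ _ hsub
  let ψ : CommRingCat.of k ⟶ Γ(X.left, U) := Spec.preimage (hU.fromSpec ≫ X.hom)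
  have hψr : ψ ≫ r = CommRingCat.ofHom (algebraMap k K) := Spec.map_injective (by
    rw [Spec.map_comp, show Spec.map ψ = hU.fromSpec ≫ X.hom from Spec.map_preimage _, ← Category.assoc, hr]
    exact Over.w x)
  letI : Algebra k Γ(X.left, U) := ψ.hom.toAlgebra
  have : Algebra.FiniteType k Γ(X.left, U) := by
    have : LocallyOfFiniteType (Spec.map ψ) := by rw [Spec.map_preimage]; infer_instance
    rw [HasRingHomProperty.Spec_iff (P := @LocallyOfFiniteType)] at this
    exact this
  let rA : Γ(X.left, U) →ₐ[k] K :=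
    { r.hom with commutes' := fun c => congrArg (fun t => t.hom c) hψr }
  obtain ⟨s, hs⟩ := ‹Algebra.FiniteType k Γ(X.left, U)›.out
  classical
  let L : IntermediateField k K := IntermediateField.adjoin k (rA '' (s : Set Γ(X.left, U)))
  haveI : Finite (rA '' (s : Set Γ(X.left, U))) := (s.finite_toSet.image _).to_subtype
  have hL : FiniteDimensional k L :=
    IntermediateField.finiteDimensional_adjoin fun y _ => Algebra.IsIntegral.isIntegral y
  have hmem' : ∀ b, rA b ∈ L := by
    intro b
    have hb : b ∈ Algebra.adjoin k (s : Set Γ(X.left, U)) := hs ▸ trivial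
    have h2 : rA b ∈ (Algebra.adjoin k (s : Set Γ(X.left, U))).map rA := ⟨b, hb, rfl⟩
    rw [AlgHom.map_adjoin] at h2
    exact IntermediateField.algebra_adjoin_le_adjoin k _ h2
  let rL : Γ(X.left, U) →+* L := rA.toRingHom.codRestrict L hmem'
  refine ⟨L, hL, Over.homMk (Spec.map (CommRingCat.ofHom rL) ≫ hU.fromSpec) ?_, ?_⟩
  · rw [Category.assoc, ← Spec.map_preimage (hU.fromSpec ≫ X.hom), ← Spec.map_comp]
    show Spec.map (ψ ≫ _) = Spec.map (CommRingCat.ofHom (algebraMap k L))
    congr 1
    refine CommRingCat.hom_ext (RingHom.ext fun c => ?_)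
    apply Subtype.ext
    exact congrArg (fun t => t.hom c) hψr
  · ext1
    show Spec.map _ ≫ Spec.map _ ≫ hU.fromSpec = x.left
    rw [← Category.assoc, ← Spec.map_comp, ← hr]
    congr 2

variable {L : Type u} [Field L] [Algebra k L] {X Y : Over (Spec (CommRingCat.of k))}

theorem whiskerLeft_specAut_left (σ : L ≃ₐ[k] L) :
    (Y ◁ SGA7.specAut σ).left = GalTw.galMap L σ Y := by
  apply pullback.hom_ext
  · rw [GalTw.galMap_fst]
    exact congrArg (fun t => t.left) (whiskerLeft_fst Y (SGA7.specAut σ))
  · rw [GalTw.galMap_snd]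
    exact congrArg (fun t => t.left) (whiskerLeft_snd Y (SGA7.specAut σ))

theorem cancel_fst (L : Type u) [Field L] [Algebra k L] {g g' : Y ⟶ X}
    (h : fst Y (SGA7.pt (K := k) L) ≫ g = fst Y (SGA7.pt (K := k) L) ≫ g') : g = g' := by
  haveI := GalTw97.epi_fst (K := L) Y
  ext1
  exact (cancel_epi (pullback.fst Y.hom (SGA7.pt (K := k) L).hom)).1 (congrArg (fun t => t.left) h)

/-- Galois descent of morphisms. -/
theorem exists_desc_fst [FiniteDimensional k L] [IsGalois k L] (f : Y ⊗ SGA7.pt (K := k) L ⟶ X)
    (h : ∀ σ : L ≃ₐ[k] L, (Y ◁ SGA7.specAut σ) ≫ f = f) : ∃ g : Y ⟶ X, fst Y _ ≫ g = f := by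
  let f' : GalTw.bcK L Y ⟶ GalTw.bcK L X := Over.homMk
    (pullback.lift f.left (pullback.snd Y.hom (SGA7.pt (K := k) L).hom)
      ((Over.w f).trans pullback.condition))
    (pullback.lift_snd _ _ _)
  have hf' : ∀ σ : L ≃ₐ[k] L, GalTw.twHom σ f' = f' := fun σ => by
    ext1
    apply pullback.hom_ext
    · simp only [GalTw.twHom_left, Category.assoc, GalTw.galMap_fst]
      rw [show f'.left ≫ pullback.fst X.hom (SGA7.pt (K := k) L).hom = f.left from pullback.lift_fst _ _ _,
        ← whiskerLeft_specAut_left]
      exact congrArg (fun t => t.left) (h σ)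
    · exact (Over.w (GalTw.twHom σ f')).trans (Over.w f').symm
  obtain ⟨g, hg⟩ := GalTw97.exists_desc f' hf'
  refine ⟨g, ?_⟩
  ext1
  show pullback.fst Y.hom (SGA7.pt (K := k) L).hom ≫ g.left = f.left
  rw [← GalTw97.map_left_fst, hg]
  exact pullback.lift_fst _ _ _

end Groth.Agent.PtCount44
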