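import Groth.Agent.AlgSt88.QuotTriv
import Groth.Prelude.Def_AlgSt5

/-!
Morphisms of a quotient category out of an object with a section.
-/

set_option autoImplicit false
set_option linter.style.haveILetI false
set_option linter.unusedSimpArgs false
set_option backward.isDefEq.respectTransparency false
set_option backward.isDefEq.respectTransparency.types false
universe u

open CategoryTheory CategoryTheory.Limits MonoidalCategory CartesianMonoidalCategory AlgebraicGeometry AlgSt
open Groth.Agent.AlgSt88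
open scoped MonObj GrpObj

namespace Groth.Agent.PtCount44

variable {S : Scheme.{u}} {K : Precoverage Scheme.{u}} {G X : Over S} [GrpObj G] {aX : AlgGrp.Action G X}
  {A B : AlgSt.QuotObj K G aX}

theorem eqv_lift (A : AlgSt.QuotObj K G aX) {T : Over S} (g : T ⟶ G) (p : T ⟶ A.P) :
    (lift g p ≫ A.act.act) ≫ A.φ = lift g (p ≫ A.φ) ≫ aX.act := by
  rw [Category.assoc, A.eqv, lift_whiskerLeft_assoc]

theorem lift_act_π (A : AlgSt.QuotObj K G aX) {T : Over S} (g : T ⟶ G) (p : T ⟶ A.P) :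
    (lift g p ≫ A.act.act) ≫ A.π = p ≫ A.π := by
  rw [Category.assoc, A.cart.w, lift_snd_assoc]

theorem exists_diff (A : AlgSt.QuotObj K G aX) {T : Over S} (q p : T ⟶ A.P) (h : q ≫ A.π = p ≫ A.π) :
    ∃ g : T ⟶ G, lift g p ≫ A.act.act = q ∧ ∀ g' : T ⟶ G, lift g' p ≫ A.act.act = q → g' = g := by
  refine ⟨A.cart.lift q p h ≫ fst _ _, ?_, fun g' hg' => ?_⟩
  · have h2 : lift (A.cart.lift q p h ≫ fst G A.P) p = A.cart.lift q p h :=
      CartesianMonoidalCategory.hom_ext _ _ (lift_fst _ _) ((lift_snd _ _).trans (A.cart.lift_snd q p h).symm)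
    rw [h2, A.cart.lift_fst]
  · have h3 : lift g' p = A.cart.lift q p h :=
      A.cart.hom_ext (hg'.trans (A.cart.lift_fst q p h).symm) ((lift_snd _ _).trans (A.cart.lift_snd q p h).symm)
    rw [← h3, lift_fst]

theorem hom_translation {tA : A.base ⟶ A.P} {tB : A.base ⟶ B.P} (hA : tA ≫ A.π = 𝟙 _) (h : A ⟶ B)
    (hB : tB ≫ B.π = h.base) :
    ∃ g : A.base ⟶ G, lift g (tB ≫ B.φ) ≫ aX.act = tA ≫ A.φ := by
  obtain ⟨g, hg, -⟩ := exists_diff B (tA ≫ h.top) tB (by
    rw [Category.assoc, h.cart.w, reassoc_of% hA, hB])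
  exact ⟨g, by rw [← eqv_lift, hg, Category.assoc, h.wφ]⟩

theorem exists_hom_of_translation {b : A.base ⟶ B.base} {tA : A.base ⟶ A.P} {tB : A.base ⟶ B.P}
    (hA : tA ≫ A.π = 𝟙 _) (hB : tB ≫ B.π = b) (g : A.base ⟶ G)
    (hg : lift g (tB ≫ B.φ) ≫ aX.act = tA ≫ A.φ) :
    ∃ h : A ⟶ B, h.base = b ∧ tA ≫ h.top = lift g tB ≫ B.act.act := by
  obtain ⟨δ, hδ, huniq⟩ := exists_diff A (𝟙 A.P) (A.π ≫ tA) (by
    rw [Category.id_comp, Category.assoc, hA, Category.comp_id])
  let σ : A.base ⟶ B.P := lift g tB ≫ B.act.act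
  have hσ : σ ≫ B.π = b := by rw [lift_act_π, hB]
  have hσφ : σ ≫ B.φ = tA ≫ A.φ := by rw [eqv_lift, hg]
  have hδ' : lift δ A.π ≫ (G ◁ tA) ≫ A.act.act = 𝟙 A.P := by rw [lift_whiskerLeft_assoc, hδ]
  have hδh : A.act.act ≫ δ = fst G A.P * (snd G A.P ≫ δ) := by
    obtain ⟨g₀, -, hu⟩ := exists_diff A A.act.act (A.act.act ≫ A.π ≫ tA) (by
      simp only [Category.assoc, hA, Category.comp_id])
    rw [hu (A.act.act ≫ δ) (by rw [← comp_lift_assoc, hδ, Category.comp_id]),
      hu (fst G A.P * (snd G A.P ≫ δ)) (by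
        rw [act_lift_mul, reassoc_of% A.cart.w, ← comp_lift_assoc, hδ, Category.comp_id, lift_fst_snd,
          Category.id_comp])]
  let e : G ⊗ A.base ≅ A.P :=
    { hom := (G ◁ tA) ≫ A.act.act
      inv := lift δ A.π
      hom_inv_id := by
        apply CartesianMonoidalCategory.hom_ext
        · rw [Category.assoc, lift_fst, Category.assoc, hδh, MonObj.comp_mul, whiskerLeft_fst, whiskerLeft_snd_assoc,
            Category.id_comp]
          have h1 : tA ≫ δ = 1 := by
            obtain ⟨g₁, -, hu₁⟩ := exists_diff A tA tA rfl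
            rw [hu₁ 1 (act_lift_one _ _)]
            refine hu₁ _ ?_
            have h2 := congrArg (tA ≫ ·) hδ
            rwa [comp_lift_assoc, Category.comp_id, ← Category.assoc tA A.π, hA, Category.id_comp] at h2
          rw [h1, MonObj.comp_one, mul_one]
        · rw [Category.assoc, lift_snd, Category.assoc, A.cart.w, whiskerLeft_snd_assoc, hA, Category.comp_id,
            Category.id_comp]
      inv_hom_id := hδ' }
  let top : A.P ⟶ B.P := lift δ (A.π ≫ σ) ≫ B.act.act
  have htop : top = e.inv ≫ (G ◁ σ) ≫ B.act.act := by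
    show top = lift δ A.π ≫ (G ◁ σ) ≫ B.act.act
    rw [lift_whiskerLeft_assoc]
  have hc : IsPullback top A.π B.π b := by
    rw [htop, ← hσ]
    exact ((isPullback_whiskerLeft σ).paste_horiz B.cart).of_iso e (Iso.refl _) (Iso.refl _) (Iso.refl _)
      (by simp) (by
        rw [Iso.refl_hom, Category.comp_id]
        show snd G A.base = ((G ◁ tA) ≫ A.act.act) ≫ A.π
        rw [Category.assoc, A.cart.w, whiskerLeft_snd_assoc, hA, Category.comp_id])
      (by simp) (by simp)
  refine ⟨{ base := b, top := top, eqv := ?_, cart := hc, wφ := ?_ }, rfl, ?_⟩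
  · show A.act.act ≫ top = (G ◁ top) ≫ B.act.act
    rw [show G ◁ top = lift (fst G A.P) (snd G A.P ≫ top) by apply CartesianMonoidalCategory.hom_ext <;> simp]
    simp only [top]
    rw [comp_lift_assoc, hδh, reassoc_of% A.cart.w, act_lift_mul, ← comp_lift_assoc]
  · rw [eqv_lift, Category.assoc, hσφ, ← Category.assoc, ← eqv_lift, hδ, Category.id_comp]
  · have h1 : tA ≫ δ = 1 := by
      obtain ⟨g₁, -, hu₁⟩ := exists_diff A tA tA rfl
      rw [hu₁ 1 (act_lift_one _ _)]
      refine hu₁ _ ?_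
      have h2 := congrArg (tA ≫ ·) hδ
      rwa [comp_lift_assoc, Category.comp_id, ← Category.assoc tA A.π, hA, Category.id_comp] at h2
    show tA ≫ lift δ (A.π ≫ σ) ≫ B.act.act = _
    rw [comp_lift_assoc, h1, reassoc_of% hA, act_lift_one]

end Groth.Agent.PtCount44
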