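import Groth.Agent.PtCount44.BaseChangeObj
import Groth.Agent.PtCount44.Frob
import Groth.Agent.PtCount44.Sections

/-!
Points of a quotient category over an algebraically closed field are orbits; models are Galois fixed orbits.
-/

set_option autoImplicit false
set_option linter.style.haveILetI false
set_option linter.unusedSimpArgs false
set_option backward.isDefEq.respectTransparency false
set_option backward.isDefEq.respectTransparency.types false
universe u

open CategoryTheory CategoryTheory.Limits MonoidalCategory CartesianMonoidalCategory AlgebraicGeometry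
open Groth.Agent.AlgSt88
open scoped MonObj GrpObj

namespace Groth.Agent.PtCount44

variable {k : Type u} [Field k]

section Tower

variable (k' : Type u) [Field k'] [Algebra k k'] (L : Type u) [Field L] [Algebra k L] [Algebra k' L]
  [IsScalarTower k k' L]

/-- A point over the larger base seen over the smaller one. -/
noncomputable def ptIso :
    SGA7.pt (K := k) L ≅ (Over.map (Spec.map (CommRingCat.ofHom (algebraMap k k')))).obj (SGA7.pt (K := k') L) :=
  Over.isoMk (Iso.refl _) (by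
    show 𝟙 _ ≫ Spec.map (CommRingCat.ofHom (algebraMap k' L)) ≫ Spec.map (CommRingCat.ofHom (algebraMap k k')) = _
    rw [Category.id_comp, ← Spec.map_comp, ← CommRingCat.ofHom_comp, ← IsScalarTower.algebraMap_eq]
    rfl)

theorem ptIso_canTo :
    ((ptIso (k := k) k' L).hom ≫ canTo _ _).left = Spec.map (CommRingCat.ofHom (algebraMap k' L)) :=
  Category.id_comp _

theorem specAut_ptIso (σ : L ≃ₐ[k'] L) :
    (Over.map (Spec.map (CommRingCat.ofHom (algebraMap k k')))).map (SGA7.specAut σ) ≫ (ptIso (k := k) k' L).inv =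
      (ptIso (k := k) k' L).inv ≫ SGA7.specAut (σ.restrictScalars k) := by
  ext1
  exact (Category.comp_id _).trans (Category.id_comp _).symm

end Tower

section Fix

variable [Finite k] {K : Type u} [Field K] [Algebra k K] [IsAlgClosure k K]
variable {G X : Over (Spec (CommRingCat.of k))} [GrpObj G] {aX : AlgGrp.Action G X} [LocallyOfFiniteType X.hom]

/-- A point fixed by the twisted Frobenius is fixed by the twisted Galois action. -/
theorem fix_of_frob (z : GpH1.OneCocycleLC (K ≃ₐ[k] K) (SGA7.Pts K G)) (x : SGA7.Pts K X)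
    (h : lift (z.1 (frob k K)) (frob k K • x) ≫ aX.act = x) (σ : K ≃ₐ[k] K) :
    lift (z.1 σ) (σ • x) ≫ aX.act = x := by
  haveI := isGalois_closure k K
  haveI : Normal k K := IsAlgClosure.normal k K
  have hpow : ∀ i : ℕ, lift (z.1 (frob k K ^ i)) ((frob k K ^ i) • x) ≫ aX.act = x := by
    intro i
    induction i with
    | zero => rw [pow_zero, GalTw.oneCocycle_one, one_smul, act_lift_one]
    | succ i ih => rw [pow_succ', z.1.2, mul_smul, act_lift_mul, ← smul_act, ih, h]
  obtain ⟨E, hE, -, hu⟩ := GalH1.exists_factor_of_isLocallyConstant z.1.1 z.2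
  obtain ⟨L₀, hL₀, x₀, hx₀⟩ := exists_level x
  let L := L₀ ⊔ E
  haveI := isGalois_level L
  obtain ⟨i, -, hi⟩ := restrict_eq_frob_pow L σ
  rw [← map_pow] at hi
  have hx : σ • x = (frob k K ^ i) • x := by
    rw [GalTw.pts_smul_def, GalTw.pts_smul_def, ← hx₀, ← lv_lv' (le_sup_left : L₀ ≤ L), Category.assoc,
      ← lv_specAut_assoc, ← lv_specAut_assoc, hi]
  have hmem : (frob k K ^ i)⁻¹ * σ ∈ L.fixingSubgroup := GalH1.inv_mul_mem_fixingSubgroup L hi.symm
  have h1 : z.1 ((frob k K ^ i)⁻¹ * σ) = 1 :=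
    (hu _ (IntermediateField.fixingSubgroup_le le_sup_right hmem)).trans (GalTw.oneCocycle_one z.1)
  have hz : z.1 σ = z.1 (frob k K ^ i) := by
    conv_lhs => rw [← mul_inv_cancel_left (frob k K ^ i) σ, z.1.2, h1, smul_one, mul_one]
  rw [hz, hx]
  exact hpow i

end Fix

variable {G X : Over (Spec (CommRingCat.of k))} [GrpObj G] {aX : AlgGrp.Action G X}

section Closed

variable {K : Type u} [Field K] [Algebra k K]

local notation "Tb" => SGA7.pt (K := k) K
local notation "Obj" => StkCnt.pts (AlgSt.QuotSt Scheme.etalePrecoverage G aX) K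

theorem exists_section [IsAlgClosed K] [LocallyOfFiniteType G.hom] (A : Obj) :
    ∃ t : Tb ⟶ A.1.P, t ≫ A.1.π = eqToHom (baseEq A).symm := by
  haveI : IsAlgClosure K K := ⟨inferInstance, inferInstance⟩
  obtain ⟨A', ⟨m⟩⟩ := exists_modelOf A
  haveI : LocallyOfFiniteType (Red.bc (Spec.map (CommRingCat.ofHom (algebraMap k K))) G).hom :=
    MorphismProperty.pullback_snd (P := @LocallyOfFiniteType) _ _ inferInstance
  obtain ⟨q⟩ := exists_point (K := K) (A := A'.1) A'.2
  refine ⟨(ptIso K K).hom ≫ (Over.map _).map q ≫ m.e.hom, ?_⟩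
  rw [← cancel_mono (eqToHom (baseEq A))]
  simp only [Category.assoc, m.π, map_canTo, eqToHom_trans, eqToHom_refl]
  ext1
  rw [ptIso_canTo, Algebra.algebraMap_self]
  exact Spec.map_id _

theorem iso_iff_orbit (A B : Obj) (tA : Tb ⟶ A.1.P) (tB : Tb ⟶ B.1.P)
    (hA : tA ≫ A.1.π = eqToHom (baseEq A).symm) (hB : tB ≫ B.1.π = eqToHom (baseEq B).symm) :
    Nonempty (A ≅ B) ↔ ∃ g : Tb ⟶ G, lift g (tA ≫ A.1.φ) ≫ aX.act = tB ≫ B.1.φ := by
  have hA' : (eqToHom (baseEq A) ≫ tA) ≫ A.1.π = 𝟙 _ := by simp [hA]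
  constructor
  · rintro ⟨m⟩
    obtain ⟨g, hg⟩ := hom_translation (tB := m.hom.1.base ≫ eqToHom (baseEq B) ≫ tB) hA' m.hom.1 (by simp [hB])
    rw [← Category.assoc m.hom.1.base, pts_base_comp, Category.assoc, Category.assoc] at hg
    refine ⟨(eqToHom (baseEq A).symm ≫ g)⁻¹, ?_⟩
    have h := congrArg (eqToHom (baseEq A).symm ≫ ·) hg
    simp only [comp_lift_assoc, eqToHom_trans_assoc, eqToHom_refl, Category.id_comp] at h
    rw [← h, ← act_lift_mul, inv_mul_cancel, act_lift_one]
  · rintro ⟨g, hg⟩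
    obtain ⟨h, hb, -⟩ := exists_hom_of_translation (A := A.1) (B := B.1) (tB := eqToHom (baseEq A) ≫ tB)
      (b := eqToHom ((baseEq A).trans (baseEq B).symm)) hA'
      (by simp [hB]) (eqToHom (baseEq A) ≫ g⁻¹) (by
        simp only [Category.assoc, ← comp_lift_assoc]
        rw [← hg, ← act_lift_mul, inv_mul_cancel, act_lift_one])
    haveI : (AlgSt.QuotSt Scheme.etalePrecoverage G aX).p.IsHomLift (𝟙 (SGA7.pt (K := k) K)) h :=
      IsHomLift.of_fac' _ _ _ A.2 B.2 (by
        show h.base = _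
        rw [hb]
        simp)
    let m : A ⟶ B := Functor.Fiber.homMk (AlgSt.QuotSt Scheme.etalePrecoverage G aX).p (SGA7.pt (K := k) K) h
    haveI := isIso_pts_hom m
    exact ⟨asIso m⟩

theorem exists_obj_with_point (x : Tb ⟶ X) :
    ∃ (A : Obj) (t : Tb ⟶ A.1.P), t ≫ A.1.π = eqToHom (baseEq A).symm ∧ t ≫ A.1.φ = x := by
  refine ⟨⟨(AlgSt.quotMap Scheme.etalePrecoverage G aX).obj ((AlgSt.ofOverCat X).obj (Over.mk x)), rfl⟩,
    lift (1 : Tb ⟶ G) (𝟙 Tb), ?_, ?_⟩
  · exact (lift_snd _ _).trans (eqToHom_refl _ rfl).symm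
  · show lift (1 : Tb ⟶ G) (𝟙 Tb) ≫ (G ◁ x) ≫ aX.act = x
    rw [lift_whiskerLeft_assoc, Category.id_comp, act_lift_one]

end Closed

section Model

variable [Finite k] {K : Type u} [Field K] [Algebra k K] [IsAlgClosure k K]
variable {k' : Type u} [Field k'] [Algebra k k'] [Algebra k' K] [IsScalarTower k k' K] [Module.Finite k k']
variable [LocallyOfFiniteType G.hom] [IsAffineHom G.hom] [LocallyOfFiniteType X.hom]

local notation "bf" => Spec.map (CommRingCat.ofHom (algebraMap k k'))
local notation "Tb" => SGA7.pt (K := k) K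
local notation "Obj" => StkCnt.pts (AlgSt.QuotSt Scheme.etalePrecoverage G aX) K

theorem hasModel_iff_aux (ι' : Tb ⟶ SGA7.pt (K := k) k')
    (hι : ι'.left = Spec.map (CommRingCat.ofHom (algebraMap k' K))) (A : Obj) (t : Tb ⟶ A.1.P)
    (ht : t ≫ A.1.π = eqToHom (baseEq A).symm) :
    (∃ (B : AlgSt.QuotObj Scheme.etalePrecoverage G aX) (hB : B.base = SGA7.pt (K := k) k')
        (h : A.1 ⟶ B), h.base = eqToHom (baseEq A) ≫ ι' ≫ eqToHom hB.symm) ↔
    (∀ (σ : K ≃ₐ[k'] K) (s : Tb ⟶ Tb),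
        s.left = Spec.map (CommRingCat.ofHom σ.toRingEquiv.toRingHom) →
        ∃ g : Tb ⟶ G, lift g (t ≫ A.1.φ) ≫ aX.act = s ≫ t ≫ A.1.φ) := by
  constructor
  · rintro ⟨B, hB, h, hh⟩ σ s hs
    have hsι : s ≫ ι' = ι' := by
      ext1
      rw [Over.comp_left, hs, hι, ← Spec.map_comp, ← CommRingCat.ofHom_comp]
      congr 2
      exact RingHom.ext σ.commutes
    have hu : (t ≫ h.top) ≫ B.π = ι' ≫ eqToHom hB.symm := by
      rw [Category.assoc, h.cart.w, reassoc_of% ht, hh]
      simp
    obtain ⟨g, hg, -⟩ := exists_diff B (s ≫ t ≫ h.top) (t ≫ h.top) (by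
      rw [Category.assoc, hu, reassoc_of% hsι])
    refine ⟨g, ?_⟩
    rw [← h.wφ, ← Category.assoc t, ← eqv_lift, hg]
    simp only [Category.assoc]
  · intro H
    haveI : Finite k' := Module.finite_of_finite k
    haveI : IsAlgClosed K := IsAlgClosure.isAlgClosed k
    haveI : Algebra.IsAlgebraic k K := IsAlgClosure.isAlgebraic
    haveI : IsAlgClosure k' K := ⟨inferInstance, Algebra.IsAlgebraic.tower_top (K := k) k'⟩
    haveI : LocallyOfFiniteType (Red.bc bf G).hom :=
      MorphismProperty.pullback_snd (P := @LocallyOfFiniteType) _ _ inferInstance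
    haveI : IsAffineHom (Red.bc bf G).hom :=
      MorphismProperty.pullback_snd (P := @IsAffineHom) _ _ inferInstance
    haveI : IsAffine (Red.bc bf G).left := isAffine_of_isAffineHom (Red.bc bf G).hom
    haveI : LocallyOfFiniteType (Red.bc bf X).hom :=
      MorphismProperty.pullback_snd (P := @LocallyOfFiniteType) _ _ inferInstance
    let x : Tb ⟶ X := t ≫ A.1.φ
    let j := ptIso (k := k) k' K
    let x' : SGA7.Pts K (Red.bc bf X) := (Over.mapPullbackAdj bf).homEquiv _ X (j.inv ≫ x)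
    obtain ⟨g, hg⟩ := H (frob k' K) (SGA7.specAut ((frob k' K).restrictScalars k)) rfl
    let g' : SGA7.Pts K (Red.bc bf G) := (Over.mapPullbackAdj bf).homEquiv _ G (j.inv ≫ g)
    have hg' : lift g' x' ≫ (aX.bc bf).act = frob k' K • x' := by
      show lift g' x' ≫ (aX.bc bf).act = SGA7.specAut (frob k' K) ≫ x'
      rw [AlgGrp.Action.lift_homEquiv_bc_act, ← Adjunction.homEquiv_naturality_left, ← comp_lift_assoc, hg,
        ← Category.assoc ((Over.map bf).map _) j.inv, specAut_ptIso, Category.assoc]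
    obtain ⟨z, hz⟩ := exists_cocycle_frob (g'⁻¹ : SGA7.Pts K (Red.bc bf G))
    have hfix : ∀ σ, lift (z.1 σ) (σ • x') ≫ (aX.bc bf).act = x' := fix_of_frob z x' (by
      rw [hz, ← hg', ← act_lift_mul, inv_mul_cancel, act_lift_one])
    obtain ⟨A', p, -, hp⟩ := exists_obj (aX := aX.bc bf) z ⟨x', hfix⟩
    obtain ⟨A₀, ⟨m⟩⟩ := exists_of_model A'
    let w : Tb ⟶ A₀.1.P := j.hom ≫ (Over.map bf).map p ≫ m.e.hom
    have hu : w ≫ A₀.1.π = ι' ≫ eqToHom (baseEq A₀).symm := by
      rw [← cancel_mono (eqToHom (baseEq A₀))]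
      simp only [w, Category.assoc, m.π, map_canTo, eqToHom_trans, eqToHom_refl, Category.comp_id]
      ext1
      rw [ptIso_canTo, hι]
    have huφ : w ≫ A₀.1.φ = x := by
      replace hp : p ≫ A'.1.φ = x' := hp
      rw [← m.φ, ← Adjunction.homEquiv_naturality_left, Equiv.apply_eq_iff_eq] at hp
      simp only [w, Category.assoc]
      rw [hp, Iso.hom_inv_id_assoc]
    obtain ⟨h, hb, -⟩ := exists_hom_of_translation (A := A.1) (B := A₀.1)
      (b := eqToHom (baseEq A) ≫ ι' ≫ eqToHom (baseEq A₀).symm)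
      (tA := eqToHom (baseEq A) ≫ t) (tB := eqToHom (baseEq A) ≫ w) (by simp [ht]) (by simp [hu]) 1 (by
        rw [act_lift_one]
        simp [huφ, x])
    exact ⟨A₀.1, baseEq A₀, h, hb⟩

end Model

end Groth.Agent.PtCount44
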