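import Groth.Agent.PtCount44.Torsor
import Groth.Agent.GalTw97.Form
import Groth.Agent.GalTw97.GrpForm
import Mathlib.AlgebraicGeometry.Sites.Etale

/-!
A torsor with a prescribed cocycle.
-/

set_option autoImplicit false
set_option linter.style.haveILetI false
set_option backward.isDefEq.respectTransparency false
set_option backward.isDefEq.respectTransparency.types false
universe u

open CategoryTheory CategoryTheory.Limits MonoidalCategory CartesianMonoidalCategory AlgebraicGeometry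
open Groth.Agent.AlgSt88
open scoped MonObj GrpObj

namespace Groth.Agent.PtCount44

section Translation

variable {S : Scheme.{u}} {G : Over S} [GrpObj G] {E E' : Over S}

/-- Right translation by a point. -/
noncomputable def rt (c : E ⟶ G) : G ⊗ E ⟶ G ⊗ E := lift (fst G E * (snd G E ≫ c)) (snd G E)

theorem rt_comp (c d : E ⟶ G) : rt c ≫ rt d = rt (c * d) := by
  apply CartesianMonoidalCategory.hom_ext
  · simp [rt, MonObj.comp_mul, mul_assoc]
  · simp [rt]

theorem rt_one : rt (1 : E ⟶ G) = 𝟙 _ := by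
  apply CartesianMonoidalCategory.hom_ext
  · simp [rt]
  · simp [rt]

theorem whiskerLeft_rt (f : E' ⟶ E) (c : E ⟶ G) : (G ◁ f) ≫ rt c = rt (f ≫ c) ≫ (G ◁ f) := by
  apply CartesianMonoidalCategory.hom_ext
  · simp [rt, MonObj.comp_mul]
  · simp [rt]

end Translation

variable {k : Type u} [Field k] {L : Type u} [Field L] [Algebra k L]
variable {G : Over (Spec (CommRingCat.of k))} [GrpObj G]

/-- Right translation as a morphism over the field. -/
noncomputable def rtK (c : SGA7.Pts L G) : GalTw.bcK L G ⟶ GalTw.bcK L G :=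
  Over.homMk (rt c).left (congrArg (fun t => t.left) (show rt c ≫ snd G (SGA7.pt (K := k) L) = snd G _ from lift_snd _ _))

theorem rtK_comp (c d : SGA7.Pts L G) : rtK c ≫ rtK d = rtK (c * d) := by
  ext1
  exact congrArg (fun t => t.left) (rt_comp c d)

theorem rtK_one : rtK (1 : SGA7.Pts L G) = 𝟙 _ := by
  ext1
  exact congrArg (fun t => t.left) (rt_one (G := G) (E := SGA7.pt (K := k) L))

/-- Translation by the inverse, as an automorphism. -/
noncomputable def rtAut (c : SGA7.Pts L G) : Aut (GalTw.bcK L G) :=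
  ⟨rtK c⁻¹, rtK c, by rw [rtK_comp, inv_mul_cancel, rtK_one], by rw [rtK_comp, mul_inv_cancel, rtK_one]⟩

theorem twHom_rtK (σ : L ≃ₐ[k] L) (c : SGA7.Pts L G) : GalTw.twHom σ (rtK c) = rtK (σ • c) := by
  ext1
  show GalTw.galMap L σ G ≫ (rt c).left ≫ GalTw.galMap L σ⁻¹ G = (rt (σ • c)).left
  have h := congrArg (fun t => t.left) (whiskerLeft_rt (G := G) (SGA7.specAut σ) c)
  simp only [Over.comp_left, whiskerLeft_specAut_left] at h
  rw [reassoc_of% h, GalTw.galMap_mul, mul_inv_cancel, GalTw.galMap_one]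
  exact Category.comp_id _

/-- The cocycle of automorphisms of the underlying scheme attached to a cocycle. -/
noncomputable def rtCoc (z : GpH1.OneCocycle (L ≃ₐ[k] L) (SGA7.Pts L G)) :
    GpH1.OneCocycle (L ≃ₐ[k] L) (Aut (GalTw.bcK L G)) :=
  ⟨fun σ => rtAut (z σ), fun σ τ => Iso.ext (by
    show rtK (z (σ * τ))⁻¹ = GalTw.twHom σ (rtK (z τ)⁻¹) ≫ rtK (z σ)⁻¹
    rw [twHom_rtK, rtK_comp, smul_inv', ← mul_inv_rev, ← z.2 σ τ])⟩

/-- Existence of a torsor with a trivialisation over a finite Galois extension with given cocycle. -/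
theorem exists_torsor_level [FiniteDimensional k L] [IsGalois k L] [IsAffine G.left] [LocallyOfFiniteType G.hom]
    (z : GpH1.OneCocycle (L ≃ₐ[k] L) (SGA7.Pts L G)) :
    ∃ (Y : Over (Spec (CommRingCat.of k))) (ψ : Y ⊗ SGA7.pt (K := k) L ⟶ G)
      (χ : G ⊗ SGA7.pt (K := k) L ⟶ Y),
      lift χ (snd _ _) ≫ ψ = fst _ _ ∧ lift ψ (snd _ _) ≫ χ = fst _ _ ∧
      (∀ s : L ≃ₐ[k] L, (Y ◁ SGA7.specAut s) ≫ ψ = ψ * (snd _ _ ≫ z s)) ∧
      IsAffine Y.left ∧ LocallyOfFiniteType Y.hom := by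
  obtain ⟨Y, φ, hφ, -, -⟩ := GalTw97.exists_twist (K := L) G
    (fun Z _ => ⟨⊤, isAffineOpen_top _, fun _ _ => trivial⟩) (rtCoc z)
  let pG : (GalTw.bcK L G).left ⟶ G.left := pullback.fst G.hom (SGA7.pt (K := k) L).hom
  let ψ : Y ⊗ (SGA7.pt (K := k) L) ⟶ G := Over.homMk (φ.hom.left ≫ pG) (by
    show (φ.hom.left ≫ pullback.fst G.hom (SGA7.pt (K := k) L).hom) ≫ G.hom = pullback.fst Y.hom (SGA7.pt (K := k) L).hom ≫ Y.hom
    rw [Category.assoc, pullback.condition, pullback.condition, ← Category.assoc]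
    exact congrArg (· ≫ (SGA7.pt (K := k) L).hom) (Over.w φ.hom))
  let χ : G ⊗ (SGA7.pt (K := k) L) ⟶ Y := Over.homMk (φ.inv.left ≫ pullback.fst Y.hom (SGA7.pt (K := k) L).hom) (by
    show (φ.inv.left ≫ pullback.fst Y.hom (SGA7.pt (K := k) L).hom) ≫ Y.hom = pullback.fst G.hom (SGA7.pt (K := k) L).hom ≫ G.hom
    rw [Category.assoc, pullback.condition, pullback.condition, ← Category.assoc]
    exact congrArg (· ≫ (SGA7.pt (K := k) L).hom) (Over.w φ.inv))
  have hχ : (lift χ (snd G (SGA7.pt (K := k) L))).left = φ.inv.left := by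
    apply pullback.hom_ext
    · exact congrArg (fun t => t.left) (lift_fst χ (snd G (SGA7.pt (K := k) L)))
    · exact (congrArg (fun t => t.left) (lift_snd χ (snd G (SGA7.pt (K := k) L)))).trans (Over.w φ.inv).symm
  have hψ : (lift ψ (snd Y (SGA7.pt (K := k) L))).left = φ.hom.left := by
    apply pullback.hom_ext
    · exact congrArg (fun t => t.left) (lift_fst ψ (snd Y (SGA7.pt (K := k) L)))
    · exact (congrArg (fun t => t.left) (lift_snd ψ (snd Y (SGA7.pt (K := k) L)))).trans (Over.w φ.hom).symm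
  refine ⟨Y, ψ, χ, ?_, ?_, fun s => ?_, GalTw97.affine_lft_of_form φ⟩
  · ext1
    show (lift χ (snd G (SGA7.pt (K := k) L))).left ≫ φ.hom.left ≫ pG = pullback.fst _ _
    rw [hχ, ← Category.assoc, ← Over.comp_left, Iso.inv_hom_id, Over.id_left]
    exact Category.id_comp pG
  · ext1
    show (lift ψ (snd Y (SGA7.pt (K := k) L))).left ≫ φ.inv.left ≫ pullback.fst Y.hom (SGA7.pt (K := k) L).hom = pullback.fst _ _
    rw [hψ, ← Category.assoc, ← Over.comp_left, Iso.hom_inv_id, Over.id_left]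
    exact Category.id_comp (pullback.fst Y.hom (SGA7.pt (K := k) L).hom)
  · have h0 : φ.hom = GalTw.twHom s φ.hom ≫ rtK (z s)⁻¹ := by
      have h := congrArg Iso.hom (hφ s)
      change GalTw.twHom s φ.inv ≫ φ.hom = rtK (z s)⁻¹ at h
      rw [← h, ← Category.assoc, ← GalTw.twHom_comp, φ.hom_inv_id, GalTw.twHom_id, Category.id_comp]
    have h1 : GalTw.twHom s φ.hom = φ.hom ≫ rtK (z s) := by
      conv_rhs => rw [h0, Category.assoc, rtK_comp, inv_mul_cancel, rtK_one, Category.comp_id]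
    ext1
    have h2 : (lift ψ (snd Y (SGA7.pt (K := k) L)) ≫ rt (z s) ≫ fst G (SGA7.pt (K := k) L)).left = (GalTw.twHom s φ.hom).left ≫ pG := by
      rw [h1]
      show (lift ψ (snd Y (SGA7.pt (K := k) L))).left ≫ (rt (z s)).left ≫ pullback.fst G.hom (SGA7.pt (K := k) L).hom = _
      rw [hψ]
      rfl
    have h3 : lift ψ (snd Y (SGA7.pt (K := k) L)) ≫ rt (z s) ≫ fst G (SGA7.pt (K := k) L) = ψ * (snd Y (SGA7.pt (K := k) L) ≫ z s) := by
      simp [rt, MonObj.comp_mul]
    rw [← h3, h2]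
    show (Y ◁ SGA7.specAut s).left ≫ φ.hom.left ≫ pG = _
    rw [whiskerLeft_specAut_left, GalTw.twHom_left]
    simp only [Category.assoc, pG, GalTw.galMap_fst]

/-- The action and the division on a twisted form of the group. -/
theorem exists_torsor_structure [FiniteDimensional k L] [IsGalois k L]
    {Y : Over (Spec (CommRingCat.of k))} (z : GpH1.OneCocycle (L ≃ₐ[k] L) (SGA7.Pts L G))
    (ψ : Y ⊗ SGA7.pt (K := k) L ⟶ G) (χ : G ⊗ SGA7.pt (K := k) L ⟶ Y)
    (h1 : lift χ (snd _ _) ≫ ψ = fst _ _) (h2 : lift ψ (snd _ _) ≫ χ = fst _ _)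
    (h3 : ∀ s : L ≃ₐ[k] L, (Y ◁ SGA7.specAut s) ≫ ψ = ψ * (snd _ _ ≫ z s)) :
    ∃ a : AlgGrp.Action G Y, NonAbH1.IsPseudoTorsorSch a ∧
      ∀ s : L ≃ₐ[k] L,
        lift (z s) (SGA7.specAut s ≫ lift (1 : SGA7.Pts L G) (𝟙 _) ≫ χ) ≫ a.act =
          lift (1 : SGA7.Pts L G) (𝟙 _) ≫ χ := by
  -- transport along the trivialisation
  have eψ : ∀ {T : Over (Spec (CommRingCat.of k))} (h : T ⟶ G) (t : T ⟶ (SGA7.pt (K := k) L)), lift (lift h t ≫ χ) t ≫ ψ = h := by
    intro T h t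
    have := congrArg (fun w => lift h t ≫ w) h1
    simpa [comp_lift_assoc] using this
  have eχ : ∀ {T : Over (Spec (CommRingCat.of k))} (y : T ⟶ Y) (t : T ⟶ (SGA7.pt (K := k) L)), lift (lift y t ≫ ψ) t ≫ χ = y := by
    intro T y t
    have := congrArg (fun w => lift y t ≫ w) h2
    simpa [comp_lift_assoc] using this
  have inj : ∀ {T : Over (Spec (CommRingCat.of k))} (y y' : T ⟶ Y) (t : T ⟶ (SGA7.pt (K := k) L)),
      lift y t ≫ ψ = lift y' t ≫ ψ → y = y' := fun y y' t h => by rw [← eχ y t, h, eχ]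
  have etw : ∀ {T : Over (Spec (CommRingCat.of k))} (y : T ⟶ Y) (t : T ⟶ (SGA7.pt (K := k) L)) (s : L ≃ₐ[k] L),
      lift y (t ≫ SGA7.specAut s) ≫ ψ = (lift y t ≫ ψ) * (t ≫ z s) := by
    intro T y t s
    have := congrArg (fun w => lift y t ≫ w) (h3 s)
    simpa [MonObj.comp_mul] using this
  have etwχ : ∀ {T : Over (Spec (CommRingCat.of k))} (h : T ⟶ G) (t : T ⟶ (SGA7.pt (K := k) L)) (s : L ≃ₐ[k] L),
      lift (h * (t ≫ z s)) (t ≫ SGA7.specAut s) ≫ χ = lift h t ≫ χ := by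
    intro T h t s
    apply inj _ _ (t ≫ SGA7.specAut s)
    rw [eψ, etw, eψ]
  -- the action
  let A₀ : (G ⊗ Y) ⊗ (SGA7.pt (K := k) L) ⟶ Y :=
    lift ((fst (G ⊗ Y) (SGA7.pt (K := k) L) ≫ fst G Y) * (lift (fst (G ⊗ Y) (SGA7.pt (K := k) L) ≫ snd G Y) (snd (G ⊗ Y) (SGA7.pt (K := k) L)) ≫ ψ)) (snd (G ⊗ Y) (SGA7.pt (K := k) L)) ≫ χ
  obtain ⟨act, hact⟩ := exists_desc_fst A₀ fun s => by
    simp only [A₀, ← Category.assoc, comp_lift, MonObj.comp_mul]
    simp only [Category.assoc, whiskerLeft_fst_assoc, whiskerLeft_snd, comp_lift_assoc]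
    rw [etw, ← mul_assoc, etwχ]
  have key : ∀ {T : Over (Spec (CommRingCat.of k))} (g : T ⟶ G) (y : T ⟶ Y) (t : T ⟶ (SGA7.pt (K := k) L)),
      lift (lift g y ≫ act) t ≫ ψ = g * (lift y t ≫ ψ) := by
    intro T g y t
    have h := congrArg (fun w => lift (lift g y) t ≫ w) hact
    simp only [A₀, lift_fst_assoc, comp_lift_assoc, MonObj.comp_mul, lift_fst, lift_snd, lift_snd_assoc,
      lift_fst_assoc] at h
    rw [h, eψ]
  have ext_fst : ∀ {W Z : Over (Spec (CommRingCat.of k))} {u v : W ⟶ Z},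
      fst W (SGA7.pt (K := k) L) ≫ u = fst W (SGA7.pt (K := k) L) ≫ v → u = v := fun h => cancel_fst L h
  have hone : ∀ {T : Over (Spec (CommRingCat.of k))} (y : T ⟶ Y), lift (1 : T ⟶ G) y ≫ act = y := by
    intro T y
    apply ext_fst
    apply inj _ _ (snd T (SGA7.pt (K := k) L))
    rw [comp_lift_assoc, key, MonObj.comp_one, one_mul]
  have hmul : ∀ {T : Over (Spec (CommRingCat.of k))} (g g' : T ⟶ G) (y : T ⟶ Y),
      lift (g * g') y ≫ act = lift g (lift g' y ≫ act) ≫ act := by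
    intro T g g' y
    apply ext_fst
    apply inj _ _ (snd T (SGA7.pt (K := k) L))
    simp only [comp_lift_assoc, comp_lift, key, MonObj.comp_mul, mul_assoc]
  let a : AlgGrp.Action G Y :=
    { act := act
      one_act := by
        have h : (η[G] ▷ Y) = lift (1 : 𝟙_ _ ⊗ Y ⟶ G) (snd _ Y) := by
          apply CartesianMonoidalCategory.hom_ext
          · rw [whiskerRight_fst, toUnit_unique (fst _ _) (toUnit _), lift_fst, ← Hom.one_def]
          · simp
        rw [h, hone, leftUnitor_hom]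
      mul_act := by
        have h : (μ[G] ▷ Y) = lift ((fst _ Y ≫ fst G G) * (fst _ Y ≫ snd G G)) (snd _ Y) := by
          apply CartesianMonoidalCategory.hom_ext
          · rw [whiskerRight_fst, lift_fst, ← MonObj.comp_mul, Hom.mul_def, lift_fst_snd, Category.id_comp]
          · simp
        have h' : (α_ G G Y).hom ≫ (G ◁ act) =
            lift (fst _ Y ≫ fst G G) (lift (fst _ Y ≫ snd G G) (snd _ Y) ≫ act) := by
          apply CartesianMonoidalCategory.hom_ext
          · simp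
          · rw [lift_snd, Category.assoc, whiskerLeft_snd, ← Category.assoc]
            congr 1
            apply CartesianMonoidalCategory.hom_ext <;> simp
        rw [h, hmul, ← h', Category.assoc] }
  -- division
  let D₀ : (Y ⊗ Y) ⊗ SGA7.pt (K := k) L ⟶ G :=
    (lift (fst (Y ⊗ Y) _ ≫ fst Y Y) (snd (Y ⊗ Y) _) ≫ ψ) * (lift (fst (Y ⊗ Y) _ ≫ snd Y Y) (snd (Y ⊗ Y) _) ≫ ψ)⁻¹
  obtain ⟨D, hD⟩ := exists_desc_fst D₀ fun s => by
    simp only [D₀, MonObj.comp_mul, GrpObj.comp_inv, comp_lift_assoc, whiskerLeft_fst_assoc, whiskerLeft_snd]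
    rw [etw, etw, mul_inv_rev, ← mul_assoc, mul_inv_cancel_right]
  have keyD : ∀ {T : Over (Spec (CommRingCat.of k))} (y y' : T ⟶ Y) (t : T ⟶ SGA7.pt (K := k) L),
      lift y y' ≫ D = (lift y t ≫ ψ) * (lift y' t ≫ ψ)⁻¹ := by
    intro T y y' t
    have h := congrArg (fun w => lift (lift y y') t ≫ w) hD
    simpa [D₀, MonObj.comp_mul, GrpObj.comp_inv, comp_lift_assoc] using h
  refine ⟨a, ?_, fun s => ?_⟩
  · refine ⟨⟨lift D (snd Y Y), ?_, ?_⟩⟩
    · apply CartesianMonoidalCategory.hom_ext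
      · apply ext_fst
        simp only [comp_lift_assoc, Category.assoc, lift_fst, Category.id_comp]
        rw [keyD _ _ (snd _ _), show fst (G ⊗ Y) (SGA7.pt (K := k) L) ≫ a.act =
          lift (fst (G ⊗ Y) _ ≫ fst G Y) (fst (G ⊗ Y) _ ≫ snd G Y) ≫ act by
            rw [← comp_lift, lift_fst_snd, Category.comp_id], key, mul_inv_cancel_right]
      · simp
    · apply CartesianMonoidalCategory.hom_ext
      · rw [Category.assoc, lift_fst, Category.id_comp]
        show lift D (snd Y Y) ≫ act = fst Y Y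
        apply ext_fst
        apply inj _ _ (snd _ (SGA7.pt (K := k) L))
        rw [comp_lift_assoc, key, show fst (Y ⊗ Y) (SGA7.pt (K := k) L) ≫ D =
          lift (fst (Y ⊗ Y) _ ≫ fst Y Y) (fst (Y ⊗ Y) _ ≫ snd Y Y) ≫ D by
            rw [← comp_lift, lift_fst_snd, Category.comp_id], keyD _ _ (snd _ _), inv_mul_cancel_right]
      · simp
  · show lift (z s) _ ≫ act = _
    apply inj _ _ (𝟙 _)
    have h := etwχ (T := SGA7.pt (K := k) L) (z s)⁻¹ (𝟙 _) s
    rw [Category.id_comp, Category.id_comp, inv_mul_cancel] at h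
    rw [key, eψ, comp_lift_assoc, MonObj.comp_one, Category.comp_id, h, eψ, mul_inv_cancel]

end Groth.Agent.PtCount44
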