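import Groth.Agent.PtCount44.Level
import Groth.Agent.AlgSt88.QuotTriv
import Groth.Prelude.Def_NonAbH2
import Groth.Prelude.Def_GalTw

/-!
The cocycle of a geometric point of a torsor, and equivariant morphisms out of torsors.
-/

set_option autoImplicit false
set_option linter.style.haveILetI false
set_option backward.isDefEq.respectTransparency false
set_option backward.isDefEq.respectTransparency.types false
universe u

open CategoryTheory CategoryTheory.Limits MonoidalCategory CartesianMonoidalCategory AlgebraicGeometry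
open Groth.Agent.AlgSt88
open scoped MonObj GrpObj

namespace Groth.Agent.PtCount44

section Div

variable {S : Scheme.{u}} {G P X : Over S} [GrpObj G] (a : AlgGrp.Action G P) (aX : AlgGrp.Action G X)

/-- `f` is equivariant. -/
def IsEqv (f : P ⟶ X) : Prop := a.act ≫ f = (G ◁ f) ≫ aX.act

variable {a aX}

theorem IsEqv.apply {f : P ⟶ X} (hf : IsEqv a aX f) {T : Over S} (g : T ⟶ G) (q : T ⟶ P) :
    (lift g q ≫ a.act) ≫ f = lift g (q ≫ f) ≫ aX.act := by
  rw [Category.assoc, hf, lift_whiskerLeft_assoc]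

theorem comp_act_lift {T T' : Over S} (t : T' ⟶ T) (g : T ⟶ G) (y : T ⟶ X) :
    t ≫ lift g y ≫ aX.act = lift (t ≫ g) (t ≫ y) ≫ aX.act := by
  rw [← Category.assoc, comp_lift]

variable (hP : NonAbH1.IsPseudoTorsorSch a)

/-- Division of points of a pseudo-torsor. -/
noncomputable def dv {T : Over S} (q p : T ⟶ P) : T ⟶ G :=
  haveI : IsIso (lift a.act (snd G P)) := hP
  lift q p ≫ inv (lift a.act (snd G P)) ≫ fst G P

theorem dv_spec {T : Over S} (q p : T ⟶ P) : lift (dv hP q p) p ≫ a.act = q := by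
  haveI : IsIso (lift a.act (snd G P)) := hP
  let w := lift q p ≫ inv (lift a.act (snd G P))
  have hw : w ≫ lift a.act (snd G P) = lift q p := by
    simp only [w]
    rw [Category.assoc, IsIso.inv_hom_id, Category.comp_id]
  have h1 : w ≫ a.act = q := by simpa using congrArg (fun t => t ≫ fst P P) hw
  have h2 : w ≫ snd G P = p := by simpa using congrArg (fun t => t ≫ snd P P) hw
  have h3 : w = lift (dv hP q p) p := CartesianMonoidalCategory.hom_ext _ _ (by simp [w, dv]) (by simp [h2])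
  rw [← h3, h1]

theorem dv_unique {T : Over S} {q p : T ⟶ P} {g : T ⟶ G} (h : lift g p ≫ a.act = q) : g = dv hP q p := by
  haveI : IsIso (lift a.act (snd G P)) := hP
  have e : lift g p = lift (dv hP q p) p := by
    rw [← cancel_mono (lift a.act (snd G P))]
    apply CartesianMonoidalCategory.hom_ext
    · simp [h, dv_spec hP q p]
    · simp
  simpa using congrArg (fun t => t ≫ fst G P) e

theorem comp_dv {T T' : Over S} (t : T' ⟶ T) (q p : T ⟶ P) : t ≫ dv hP q p = dv hP (t ≫ q) (t ≫ p) :=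
  dv_unique hP (by rw [← comp_act_lift, dv_spec])

theorem dv_self {T : Over S} (p : T ⟶ P) : dv hP p p = 1 :=
  (dv_unique hP (act_lift_one a p)).symm

theorem dv_act {T : Over S} (g : T ⟶ G) (q p : T ⟶ P) : dv hP (lift g q ≫ a.act) p = g * dv hP q p :=
  (dv_unique hP (by rw [act_lift_mul, dv_spec])).symm

end Div

variable {k : Type u} [Field k] {K : Type u} [Field K] [Algebra k K]
variable {G P X : Over (Spec (CommRingCat.of k))} [GrpObj G] {a : AlgGrp.Action G P} {aX : AlgGrp.Action G X}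

theorem smul_act (σ : K ≃ₐ[k] K) (g : SGA7.Pts K G) (x : SGA7.Pts K X) :
    σ • (lift g x ≫ aX.act : SGA7.Pts K X) = lift (σ • g) (σ • x) ≫ aX.act :=
  comp_act_lift _ g x

variable (hP : NonAbH1.IsPseudoTorsorSch a)

/-- The cocycle of a geometric point of a torsor: `z σ` moves `σ • p` back to `p`. -/
noncomputable def ptCoc (p : SGA7.Pts K P) : GpH1.OneCocycle (K ≃ₐ[k] K) (SGA7.Pts K G) :=
  ⟨fun σ => dv hP p (σ • p), fun σ τ => (dv_unique hP (by
    rw [act_lift_mul, mul_smul, ← smul_act, dv_spec, dv_spec])).symm⟩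

theorem ptCoc_spec (p : SGA7.Pts K P) (σ : K ≃ₐ[k] K) : lift (ptCoc hP p σ) (σ • p) ≫ a.act = p :=
  dv_spec hP _ _

theorem ptCoc_unique {p : SGA7.Pts K P} {σ : K ≃ₐ[k] K} {g : SGA7.Pts K G}
    (h : lift g (σ • p) ≫ a.act = p) : g = ptCoc hP p σ :=
  dv_unique hP h

/-- Translating the point changes the cocycle by a coboundary. -/
theorem ptCoc_act (p : SGA7.Pts K P) (c : SGA7.Pts K G) (σ : K ≃ₐ[k] K) :
    ptCoc hP (lift c p ≫ a.act) σ = c * ptCoc hP p σ * (σ • c)⁻¹ := by
  refine (dv_unique hP ?_).symm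
  rw [smul_act, ← act_lift_mul, inv_mul_cancel_right, act_lift_mul, ptCoc_spec]

theorem isLocallyConstant_of_restrict [Normal k K] {A : Type u} (L : IntermediateField k K) [FiniteDimensional k L]
    [Normal k L] (f : (L ≃ₐ[k] L) → A) :
    IsLocallyConstant fun σ : K ≃ₐ[k] K => f (AlgEquiv.restrictNormalHom L σ) := by
  rw [IsLocallyConstant.iff_exists_open]
  intro σ
  refine ⟨(fun τ => σ * τ) '' (L.fixingSubgroup : Set (K ≃ₐ[k] K)), ?_, ⟨1, one_mem _, mul_one σ⟩, ?_⟩
  · exact (Homeomorph.mulLeft σ).isOpenMap _ (IntermediateField.fixingSubgroup_isOpen L)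
  · rintro _ ⟨τ, hτ, rfl⟩
    congr 1
    rw [map_mul, mul_eq_left]
    ext x
    rw [AlgEquiv.restrictNormalHom_apply]
    exact (IntermediateField.mem_fixingSubgroup_iff _ _).1 hτ x x.2

variable [Finite k] [IsAlgClosure k K]

theorem finite_level (L : IntermediateField k K) [FiniteDimensional k L] : Finite L :=
  Module.finite_of_finite k

theorem isGalois_level (L : IntermediateField k K) [FiniteDimensional k L] : IsGalois k L := by
  haveI := finite_level L
  infer_instance

theorem isLocallyConstant_ptCoc [LocallyOfFiniteType P.hom] (p : SGA7.Pts K P) :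
    IsLocallyConstant (ptCoc hP p : (K ≃ₐ[k] K) → SGA7.Pts K G) := by
  obtain ⟨L, hL, p', hp'⟩ := exists_level p
  haveI := isGalois_level L
  haveI : Normal k K := IsAlgClosure.normal k K
  have e : ∀ σ, ptCoc hP p σ = lv L ≫ dv hP p' (SGA7.specAut (AlgEquiv.restrictNormalHom L σ) ≫ p') := fun σ => by
    rw [comp_dv, lv_specAut_assoc, hp']
    rfl
  rw [funext e]
  exact isLocallyConstant_of_restrict L fun τ => lv L ≫ dv hP p' (SGA7.specAut τ ≫ p')

/-- The locally constant cocycle of a geometric point. -/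
noncomputable def ptCocLC [LocallyOfFiniteType P.hom] (p : SGA7.Pts K P) :
    GpH1.OneCocycleLC (K ≃ₐ[k] K) (SGA7.Pts K G) :=
  ⟨ptCoc hP p, isLocallyConstant_ptCoc hP p⟩

/-- Equivariant morphisms out of a torsor are the points fixed by the twisted Galois action. -/
theorem existsUnique_eqv [LocallyOfFiniteType P.hom] [LocallyOfFiniteType X.hom] (p : SGA7.Pts K P)
    (x : SGA7.Pts K X) (hx : ∀ σ : K ≃ₐ[k] K, lift (ptCoc hP p σ) (σ • x) ≫ aX.act = x) :
    ∃! f : P ⟶ X, IsEqv a aX f ∧ p ≫ f = x := by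
  obtain ⟨L₁, hL₁, p₁, hp₁⟩ := exists_level p
  obtain ⟨L₂, hL₂, x₁, hx₁⟩ := exists_level x
  let L := L₁ ⊔ L₂
  haveI := isGalois_level L
  haveI : Normal k K := IsAlgClosure.normal k K
  haveI := epi_lv L
  let E := SGA7.pt (K := k) L
  let p' : E ⟶ P := lv' (le_sup_left : L₁ ≤ L) ≫ p₁
  let x' : E ⟶ X := lv' (le_sup_right : L₂ ≤ L) ≫ x₁
  have hp' : lv L ≫ p' = p := by rw [lv_lv'_assoc, hp₁]
  have hx' : lv L ≫ x' = x := by rw [lv_lv'_assoc, hx₁]
  let d : P ⊗ E ⟶ G := dv hP (fst P E) (snd P E ≫ p')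
  let f₀ : P ⊗ E ⟶ X := lift d (snd P E ≫ x') ≫ aX.act
  have hd : lift d (snd P E ≫ p') ≫ a.act = fst P E := dv_spec hP _ _
  have hinv : ∀ s : L ≃ₐ[k] L, (P ◁ SGA7.specAut s) ≫ f₀ = f₀ := by
    intro s
    obtain ⟨σ, hσ⟩ := AlgEquiv.restrictNormalHom_surjective (F := k) (K₁ := L) K s
    let zL : E ⟶ G := dv hP p' (SGA7.specAut s ≫ p')
    have h2 : lv L ≫ zL = ptCoc hP p σ := by
      rw [comp_dv, ← hσ, lv_specAut_assoc, hp']
      rfl
    have h1 : lift zL (SGA7.specAut s ≫ x') ≫ aX.act = x' := by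
      rw [← cancel_epi (lv L), comp_act_lift, h2, ← hσ, lv_specAut_assoc, hx']
      exact hx σ
    have hw : (P ◁ SGA7.specAut s) ≫ d = d * (snd P E ≫ zL) := by
      rw [comp_dv, whiskerLeft_fst, whiskerLeft_snd_assoc]
      refine (dv_unique hP ?_).symm
      rw [act_lift_mul, ← comp_act_lift, dv_spec, hd]
    rw [comp_act_lift, hw, whiskerLeft_snd_assoc, act_lift_mul, ← comp_act_lift, h1]
  obtain ⟨f, hf⟩ := exists_desc_fst f₀ hinv
  refine ⟨f, ⟨?_, ?_⟩, ?_⟩
  · apply cancel_fst (L := L)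
    let m : (G ⊗ P) ⊗ E ⟶ P ⊗ E := lift (fst _ E ≫ a.act) (snd _ E)
    let n : (G ⊗ P) ⊗ E ⟶ P ⊗ E := lift (fst _ E ≫ snd G P) (snd _ E)
    have hmd : m ≫ d = (fst _ E ≫ fst G P) * (n ≫ d) := by
      rw [comp_dv, comp_dv, ← dv_act]
      congr 1
      · simp only [m, n, lift_fst]
        rw [← comp_act_lift, lift_fst_snd, Category.id_comp]
      · simp [m, n]
    have e1 : fst _ E ≫ a.act ≫ f = m ≫ f₀ := by
      rw [← hf, lift_fst_assoc, Category.assoc]
    have e2 : fst _ E ≫ (G ◁ f) = lift (fst _ E ≫ fst G P) (n ≫ f₀) := by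
      rw [← hf, lift_fst_assoc, Category.assoc]
      apply CartesianMonoidalCategory.hom_ext <;> simp
    rw [e1, ← Category.assoc (fst _ E) (G ◁ f) aX.act, e2, comp_act_lift, hmd, act_lift_mul, comp_act_lift]
    congr 4
    simp [m, n]
  · rw [← hp', Category.assoc, ← hx']
    congr 1
    have h1 : lift p' (𝟙 E) ≫ f₀ = p' ≫ f := by rw [← hf, lift_fst_assoc]
    rw [← h1, comp_act_lift, comp_dv, lift_fst, lift_snd_assoc, Category.id_comp, dv_self, lift_snd_assoc,
      Category.id_comp, act_lift_one]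
  · rintro f' ⟨hf1, hf2⟩
    apply cancel_fst (L := L)
    have h3 : p' ≫ f' = x' := by
      rw [← cancel_epi (lv L), ← Category.assoc, hp', hf2, hx']
    rw [hf]
    conv_lhs => rw [← hd, hf1.apply, Category.assoc, h3]

end Groth.Agent.PtCount44
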